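import Cfsg.Agent.SPQ.Even1

/-! Project SPQ: characteristic two, the normal form determines the fusion. -/

set_option autoImplicit false
set_option linter.unusedSectionVars false

namespace Cfsg.Agent.SPQ

open Subgroup Cfsg.Agent.SR3

universe u v

namespace Ev2

section Fld

variable {K : Type*} [Field K] [CharP K 2]

theorem lin_of_odd (hK : ∀ t : K, t ≠ 0 → t ^ 3 = 1) {α : K → K} (add : ∀ s t, α (s + t) = α s + α t)
    {m : ℕ} (hm : Odd m) (h : ∀ t, α^[m] t = t) : α 1 ≠ 0 ∧ ∀ t, α t = α 1 * t := by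
  have h2 : (2 : K) = 0 := CharTwo.two_eq_zero
  obtain ⟨k, rfl⟩ := hm
  replace h : ∀ t, α^[Nat.succ (2 * k)] t = t := h
  have inj : Function.Injective α := fun s t e => by
    rw [← h s, ← h t, Function.iterate_succ_apply, Function.iterate_succ_apply, e]
  have z : α 0 = 0 := by
    have := add 0 0
    rw [add_zero] at this
    linear_combination -this
  have a0 : α 1 ≠ 0 := fun e => one_ne_zero (inj (e.trans z.symm))
  refine ⟨a0, fun t => by_contra fun ht => ?_⟩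
  have t0 : t ≠ 0 := by rintro rfl; exact ht (by rw [z, mul_zero])
  have t1 : t - 1 ≠ 0 := fun e => ht (by rw [sub_eq_zero.1 e, mul_one])
  have q : t ^ 2 + t + 1 = 0 := mul_left_cancel₀ t1 (by linear_combination hK t t0)
  have x3 := hK (α t) fun e => t0 (inj (e.trans z.symm))
  have a3 := hK _ a0
  have e1 : α t = α 1 * t ^ 2 := by
    have : (α t - α 1) * ((α t - α 1 * t) * (α t - α 1 * t ^ 2)) = 0 := by
      linear_combination x3 - a3 - (α t ^ 2 * α 1 - α t * α 1 ^ 2 * t + α 1 ^ 3 * (t - 1)) * q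
    rcases mul_eq_zero.1 this with e | e
    · exact absurd (sub_eq_zero.2 (inj (sub_eq_zero.1 e))) t1
    · exact sub_eq_zero.1 ((mul_eq_zero.1 e).resolve_left fun e => ht (sub_eq_zero.1 e))
  have s4 : ∀ s : K, s ^ 4 = s := fun s => by
    by_cases e : s = 0
    · rw [e]; simp
    · linear_combination s * hK s e
  have e2 : ∀ s, α s = α 1 * s ^ 2 := fun s => by
    have : s * ((s - 1) * ((s - t) * (s - (t + 1)))) = 0 := by
      linear_combination s4 s + (s ^ 2 - s) * q + (s - s ^ 3 - s ^ 3 * t + s ^ 2 * t) * h2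
    rcases mul_eq_zero.1 this with e | e
    · rw [e, z]; simp
    rcases mul_eq_zero.1 e with e | e
    · rw [sub_eq_zero.1 e]; simp
    rcases mul_eq_zero.1 e with e | e
    · rw [sub_eq_zero.1 e, e1]
    · rw [sub_eq_zero.1 e, add, e1]; linear_combination -(α 1 * t) * h2
  have e3 : ∀ s, α (α s) = s := fun s => by
    rw [e2 (α s), e2 s]; linear_combination s ^ 4 * a3 + s4 s
  have e4 : ∀ s, α s = s := fun s => by
    have := h s
    rwa [Function.iterate_succ_apply', Function.iterate_mul,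
      Function.iterate_fixed (f := α^[2]) (e3 s)] at this
  exact ht (by rw [e4, e4, one_mul])

end Fld

section Lin

variable {K : Type*} [Field K] [Finite K] [CharP K 2] {f : K → K → K}
  {N Γ N' Γ' : Subgroup (Au (V K))} {γ : Au (V K)} {c : K}

theorem nm1 {ν μ : Au (V K)} {r : K} (hν : IsN f r ν) (hμ : IsM f 1 μ) (u w : K) :
    ν (μ (0, u, w - f 1 u - 2 * r * u - f r u)) = (u, (r + 1) * u, w) := by
  rw [hμ, hν, one_mul, zero_add]
  exact Prod.ext rfl (Prod.ext (by simp only; ring) (by simp only; ring))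

theorem eq_of (hf : f = fA ∨ f = fB) (h : Lin 2 f N Γ) (hc : c ≠ 0) (hx : Fx Γ (0, 0, c))
    {P Q : Au (V K)} (hP : P ∈ Γ) (hQ : Q ∈ Γ) (h1 : ∀ w, P (0, 0, w) = Q (0, 0, w))
    (h2 : ∀ y, (P y).1 = (Q y).1 ∧ (P y).2.1 = (Q y).2.1) : P = Q := by
  refine mul_inv_eq_one.1 (lin2_one h (mul_mem hP (inv_mem hQ)) (fun w => ?_) fun y => ?_)
  · obtain ⟨w', e⟩ := lin2_inv hf h hc hx (inv_mem hQ) w
    rw [LinearEquiv.mul_apply, e, h1, ← e, Au.apply_inv]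
  · have := h2 (Q⁻¹ y)
    rwa [Au.apply_inv] at this

theorem adj (hf : f = fA ∨ f = fB) (h : Lin 2 f N Γ) (hc : c ≠ 0) (hx : Fx Γ (0, 0, c))
    (hm : ∀ s, ∃ γ ∈ Γ, IsM f s γ) (hγ : γ ∈ Γ) (h1 : ∀ y, (γ y).1 = 0 → y.1 = 0) :
    ∃ t, ∀ u w, (γ (u, 0, w)).2.1 = t * (γ (u, 0, w)).1 := by
  obtain ⟨ν, hν, e1⟩ := h.ex 1
  obtain ⟨μ, hμ, e2⟩ := hm 1
  have k : ∀ u w, (γ * ν * μ) (0, u, w - f 1 u - 2 * 1 * u - f 1 u) = γ (u, 0, w) := fun u w => by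
    rw [LinearEquiv.mul_apply, LinearEquiv.mul_apply, nm1 e1 e2, one_add_one_eq_two, CharTwo.two_eq_zero,
      zero_mul]
  rcases lin2_orb hf h hc hx hm (mul_mem (mul_mem hγ (h.syl.le hν)) hμ) with e | ⟨t, e⟩
  · exact absurd (h1 (1, 0, 0) (k 1 0 ▸ e _ rfl)) one_ne_zero
  · exact ⟨t, fun u w => k u w ▸ e _ rfl⟩

theorem le_of (hf : f = fA ∨ f = fB) (h : Lin 2 f N Γ) (h' : Lin 2 f N' Γ') (hc : c ≠ 0)
    (hx : Fx Γ (0, 0, c)) (hm : ∀ s, ∃ γ ∈ Γ, IsM f s γ) (hm' : ∀ s, ∃ γ ∈ Γ', IsM f s γ)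
    (hn : ∀ γ ∈ Γ, γ ∈ normalizer (N : Set (Au (V K))) → γ ∈ Γ') : Γ ≤ Γ' := fun γ hγ => by
  rcases lin2_orb hf h hc hx hm hγ with e | ⟨t, e⟩
  · exact hn γ hγ (lin2_nm hf h hγ e)
  obtain ⟨ν, hν, e1⟩ := h.ex (t - 1)
  obtain ⟨μ, hμ, e2⟩ := hm 1
  obtain ⟨ν', hν', e1'⟩ := h'.ex (t - 1)
  obtain ⟨μ', hμ', e2'⟩ := hm' 1
  obtain rfl : ν = ν' := LinearEquiv.ext fun y => (e1 _ _ _).trans (e1' _ _ _).symm
  obtain rfl : μ = μ' := LinearEquiv.ext fun y => (e2 _ _ _).trans (e2' _ _ _).symm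
  have m := mul_mem (inv_mem (mul_mem (h.syl.le hν) hμ)) hγ
  have := mul_mem (mul_mem (h'.syl.le hν') hμ') (hn _ m (lin2_nm hf h m fun y hy => by
    have k := nm1 e1 e2 (γ y).1 (γ y).2.2
    rw [sub_add_cancel, ← e y hy, ← LinearEquiv.mul_apply] at k
    rw [LinearEquiv.mul_apply, show γ y = _ from k.symm, Au.inv_apply]))
  rwa [mul_inv_cancel_left] at this

end Lin

variable {G : Type u} [Group G] [Finite G] {G' : Type v} [Group G'] [Finite G'] {K : Type*}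
  [Field K] [Finite K] [CharP K 2] {φ : M K →* G} {φ' : M K →* G'} {g : G} {θ : M K → M K}

/-- `g` induces `θ` on the Sylow subgroup. -/
def Ind (φ : M K →* G) (g : G) (θ : M K → M K) : Prop := ∀ m, g * φ m * g⁻¹ = φ (θ m)

theorem exists_ind (hg : g ∈ nm φ.range) : ∃ θ, Ind φ g θ := by
  choose θ hθ using fun m => conj_mem hg (⟨m, rfl⟩ : φ m ∈ φ.range)
  exact ⟨θ, fun m => (hθ m).symm⟩

theorem Ind.nm (h : Ind φ g θ) : g ∈ nm φ.range :=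
  mem_nm_of_conj (by rintro _ ⟨m, rfl⟩; exact ⟨_, (h m).symm⟩)

theorem Ind.mul (hφ : Function.Injective φ) (h : Ind φ g θ) (m n : M K) : θ (m * n) = θ m * θ n :=
  hφ (by rw [map_mul, ← h, ← h, ← h, map_mul, conj_mul])

theorem Ind.mem (hφ : Function.Injective φ) (h : Ind φ g θ) {X : Subgroup (M K)}
    (hg : g ∈ SR3.nm (X.map φ)) {m : M K} : θ m ∈ X ↔ m ∈ X := by
  rw [← mem_map_iff_mem hφ, ← h, ← mem_normalizer_iff.1 hg, mem_map_iff_mem hφ]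

theorem Ind.pow (h : Ind φ g θ) (n : ℕ) : Ind φ (g ^ n) θ^[n] := by
  induction n with
  | zero => intro m; simp
  | succ n ih => intro m; rw [pow_succ, Function.iterate_succ_apply, ← ih, ← h]; group

theorem Ind.conj (h : Ind φ g θ) (s : M K) : Ind φ (φ s * g) fun m => s * θ m * s⁻¹ := fun m => by
  rw [map_mul, map_mul, map_inv, ← h]; group

theorem Ind.gA (h : NF φ) (hi : Ind φ g θ) : ∃ γ ∈ Gam (pA φ) ⊤, ∀ u v w,
    θ ⟨0, u, v, w⟩ = ⟨0, (γ (u, v, w)).1, (γ (u, v, w)).2.1, (γ (u, v, w)).2.2⟩ := by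
  obtain ⟨γ, e⟩ := gamA h.inj ((even_nm h.inj h.sat).1 hi.nm)
  exact ⟨γ, ⟨g, mem_top g, e⟩, fun u v w => h.inj ((hi _).symm.trans (e (u, v, w)))⟩

theorem Ind.gB (h : NF φ) (hi : Ind φ g θ) : ∃ γ ∈ Gam (pB φ) ⊤, ∀ t v w,
    θ ⟨t, 0, v, w⟩ = ⟨(γ (t, v, w)).1, 0, (γ (t, v, w)).2.1, (γ (t, v, w)).2.2⟩ := by
  obtain ⟨γ, e⟩ := gamB h.inj ((even_nm h.inj h.sat).2 hi.nm)
  exact ⟨γ, ⟨g, mem_top g, e⟩, fun u v w => h.inj ((hi _).symm.trans (e (u, v, w)))⟩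

theorem cube (h : NF φ) (t : K) (ht : t ≠ 0) : t ^ 3 = 1 := lin2_card (linA h.inj h.esA) h.mA ht

theorem core (h : NF φ) (hi : Ind φ g θ) (hA : ∀ u, (θ ⟨0, u, 0, 0⟩).v = 0)
    (hB : ∀ t, (θ ⟨t, 0, 0, 0⟩).v = 0) : ∃ a b : K, a ≠ 0 ∧ b ≠ 0 ∧ ∀ m, θ m = dg a b m := by
  have h2 : (2 : K) = 0 := CharTwo.two_eq_zero
  have mul := hi.mul h.inj
  obtain ⟨c, c0, fxA, fxB⟩ := h.fx
  obtain ⟨γA, mA, eA⟩ := hi.gA h
  obtain ⟨γB, mB, eB⟩ := hi.gB h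
  have tA : ∀ u v w, (θ ⟨0, u, v, w⟩).t = 0 := fun u v w => by rw [eA]
  have uB : ∀ t v w, (θ ⟨t, 0, v, w⟩).u = 0 := fun t v w => by rw [eB]
  have vZ : ∀ w, (θ ⟨0, 0, 0, w⟩).v = 0 := fun w => by
    obtain ⟨w', e⟩ := lin2_inv (Or.inl rfl) (linA h.inj h.esA) c0 fxA mA w
    rw [eA, e]
  have ht : ∀ m, (θ m).t = (θ ⟨m.t, 0, 0, 0⟩).t := fun m => by
    have : m = ⟨0, m.u, m.v, m.w⟩ * ⟨m.t, 0, 0, 0⟩ := by ext <;> simp
    nth_rewrite 1 [this]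
    rw [mul, M.mul_t, tA, zero_add]
  have hu : ∀ m, (θ m).u = (θ ⟨0, m.u, 0, 0⟩).u := fun m => by
    have : m = ⟨0, m.u, 0, 0⟩ * ⟨m.t, 0, m.v, m.w⟩ := by ext <;> simp
    nth_rewrite 1 [this]
    rw [mul, M.mul_u, uB, add_zero]
  obtain ⟨n, hn, e⟩ := (Rows.loc_top (pg_range φ) h.sat).cop hi.nm
  obtain ⟨_, ⟨s, rfl⟩, z, hz, e⟩ := (mem_sup_of_nm fun _ hx => nm_ce (le_normalizer hx)).1 e
  have it : ∀ m, θ^[n] m = s * m * s⁻¹ := fun m => h.inj (by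
    rw [← hi.pow n, ← e, mul_assoc (φ s), ← hz _ ⟨m, rfl⟩, map_mul, map_mul, map_inv]; group)
  have ho : Odd n := Nat.coprime_two_right.1 hn
  obtain ⟨a0, ea⟩ := lin_of_odd (cube h) (α := fun t => (θ ⟨t, 0, 0, 0⟩).t) (fun s t => by
      rw [← M.mul_t, ← mul]; congr 2; ext <;> simp) ho fun t => by
    have : ∀ k : ℕ, ∀ m : M K, (fun t => (θ ⟨t, 0, 0, 0⟩).t)^[k] m.t = (θ^[k] m).t := fun k => by
      induction k with
      | zero => intro m; rfl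
      | succ k ih => intro m; rw [Function.iterate_succ_apply, Function.iterate_succ_apply, ← ih, ht m]
    rw [this n ⟨t, 0, 0, 0⟩, it]; simp
  obtain ⟨b0, eb⟩ := lin_of_odd (cube h) (α := fun u => (θ ⟨0, u, 0, 0⟩).u) (fun s t => by
      rw [← M.mul_u, ← mul]; congr 2; ext <;> simp) ho fun t => by
    have : ∀ k : ℕ, ∀ m : M K, (fun u => (θ ⟨0, u, 0, 0⟩).u)^[k] m.u = (θ^[k] m).u := fun k => by
      induction k with
      | zero => intro m; rfl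
      | succ k ih => intro m; rw [Function.iterate_succ_apply, Function.iterate_succ_apply, ← ih, hu m]
    rw [this n ⟨0, t, 0, 0⟩, it]; simp
  generalize (θ ⟨1, 0, 0, 0⟩).t = a at a0 ea
  generalize (θ ⟨0, 1, 0, 0⟩).u = b at b0 eb
  obtain ⟨χ₂, e₂⟩ : ∃ χ : K → K, ∀ t, θ ⟨t, 0, 0, 0⟩ = ⟨a * t, 0, 0, χ t⟩ :=
    ⟨_, fun t => M.ext (ea t) (uB _ _ _) (hB t) rfl⟩
  obtain ⟨χ₁, e₁⟩ : ∃ χ : K → K, ∀ u, θ ⟨0, u, 0, 0⟩ = ⟨0, b * u, 0, χ u⟩ :=
    ⟨_, fun u => M.ext (tA _ _ _) (eb u) (hA u) rfl⟩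
  obtain ⟨δ, e₄⟩ : ∃ δ : K → K, ∀ w, θ ⟨0, 0, 0, w⟩ = ⟨0, 0, 0, δ w⟩ :=
    ⟨_, fun w => M.ext (tA _ _ _) (uB _ _ _) (vZ w) rfl⟩
  obtain ⟨ε, χ₃, e₃⟩ : ∃ ε χ : K → K, ∀ v, θ ⟨0, 0, v, 0⟩ = ⟨0, 0, ε v, χ v⟩ :=
    ⟨_, _, fun v => M.ext (tA _ _ _) (uB _ _ _) rfl rfl⟩
  have cm : ∀ t u, ε (t * u) = a * b * (t * u) ∧ χ₃ (t * u) + δ (t ^ 2 * u) = a ^ 2 * b * (t ^ 2 * u) := by
    intro t u
    have k : θ (⟨t, 0, 0, 0⟩ * ⟨0, u, 0, 0⟩) =
        θ (⟨0, 0, t * u, 0⟩ * ⟨0, 0, 0, t ^ 2 * u⟩ * ⟨0, u, 0, 0⟩ * ⟨t, 0, 0, 0⟩) := by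
      congr 1; ext <;> simp
    rw [mul, mul, mul, mul, e₁, e₂, e₃, e₄] at k
    have k1 := congrArg M.v k
    have k2 := congrArg M.w k
    simp only [M.mul_t, M.mul_v, M.mul_w] at k1 k2
    exact ⟨by linear_combination -k1, by linear_combination -k2⟩
  have c1 : ∀ u, ε u = a * b * u ∧ χ₃ u + δ u = a ^ 2 * b * u := fun u => by simpa using cm 1 u
  have χ0 : ∀ v, χ₃ v = 0 := by
    have add : ∀ v v', χ₃ (v + v') = χ₃ v + χ₃ v' := fun v v' => by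
      have k : θ ⟨0, 0, v + v', 0⟩ = θ (⟨0, 0, v, 0⟩ * ⟨0, 0, v', 0⟩) := by congr 1; ext <;> simp
      rw [mul, e₃, e₃, e₃] at k
      simpa using congrArg M.w k
    by_cases k : ∃ t : K, t ^ 2 + t ≠ 0
    · obtain ⟨t, t0⟩ := k
      intro v
      have k1 := add (t ^ 2 * (v / (t ^ 2 + t))) (t * (v / (t ^ 2 + t)))
      rw [← add_mul, mul_div_cancel₀ _ t0] at k1
      linear_combination k1 + (cm t (v / (t ^ 2 + t))).2 - (c1 (t ^ 2 * (v / (t ^ 2 + t)))).2 +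
        χ₃ (t ^ 2 * (v / (t ^ 2 + t))) * h2
    · push Not at k
      have one : ∀ t : K, t ≠ 0 → t = 1 := fun t t0 =>
        mul_left_cancel₀ t0 (by linear_combination k t - t * h2)
      intro v
      by_cases v0 : v = 0
      · have := add 0 0
        rw [add_zero] at this
        rw [v0]; linear_combination -this
      · have d : δ v ≠ 0 := fun e => v0 (by
          have k1 := hi ⟨0, 0, 0, v⟩
          rw [e₄, e, show (⟨0, 0, 0, 0⟩ : M K) = 1 from rfl, map_one, conj_eq_one_iff,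
            map_eq_one_iff _ h.inj] at k1
          exact congrArg M.w k1)
        have := (c1 v).2
        rw [one _ d, one a a0, one b b0, one v v0] at this
        rw [one v v0]
        linear_combination this
  have eδ : ∀ w, δ w = a ^ 2 * b * w := fun w => by rw [← (c1 w).2, χ0, zero_add]
  have all : ∀ t u v w, θ ⟨t, u, v, w⟩ =
      ⟨a * t, b * u, a * b * v, a ^ 2 * b * w + χ₁ u + χ₂ t⟩ := fun t u v w => by
    have k : θ ⟨t, u, v, w⟩ = θ (⟨0, u, 0, 0⟩ * ⟨0, 0, v, 0⟩ * ⟨0, 0, 0, w⟩ * ⟨t, 0, 0, 0⟩) := by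
      congr 1; ext <;> simp
    rw [k, mul, mul, mul, e₁, e₂, e₃, e₄, (c1 v).1, χ0, eδ]
    ext <;> simp
    ring
  have z₁ : χ₁ 0 + χ₂ 0 = 0 := by
    have := congrArg M.w ((all 0 0 0 0).symm.trans (e₄ 0))
    simpa [eδ] using this
  have z₂ : χ₁ 0 = 0 := by
    have := congrArg M.w ((e₁ 0).symm.trans (e₄ 0))
    simpa [eδ] using this
  have z₃ : χ₂ 0 = 0 := by rwa [z₂, zero_add] at z₁
  have gA : ∀ u v w, γA (u, v, w) = (b * u, a * b * v, a ^ 2 * b * w + χ₁ u) := fun u v w => by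
    have := (eA u v w).symm.trans (all 0 u v w)
    rw [z₃, add_zero] at this
    exact Prod.ext (congrArg M.u this) (Prod.ext (congrArg M.v this) (congrArg M.w this))
  have gB : ∀ t v w, γB (t, v, w) = (a * t, a * b * v, a ^ 2 * b * w + χ₂ t) := fun t v w => by
    have := (eB t v w).symm.trans (all t 0 v w)
    rw [z₂, add_zero] at this
    exact Prod.ext (congrArg M.t this) (Prod.ext (congrArg M.v this) (congrArg M.w this))
  have a3 := cube h a a0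
  have y₁ : ∀ s, χ₁ s = 0 := fun s => by
    obtain ⟨μ, hμ, e⟩ := h.mA s
    obtain ⟨μ', hμ', e'⟩ := h.mA (s / a)
    have k := eq_of (Or.inl rfl) (linA h.inj h.esA) c0 fxA (mul_mem mA hμ) (mul_mem hμ' mA)
      (fun w => by rw [LinearEquiv.mul_apply, LinearEquiv.mul_apply, e, gA, gA, e']; simp [fA])
      fun ⟨u, v, w⟩ => by
        rw [LinearEquiv.mul_apply, LinearEquiv.mul_apply, e, gA, gA, e']
        exact ⟨by simp only; field_simp, rfl⟩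
    have k1 := congrArg (fun P : Au (V K) => (P (0, 1, 0)).2.2) k
    simp only [LinearEquiv.mul_apply] at k1
    rw [e, gA, gA, e', z₂] at k1
    simp only [fA, mul_one, zero_add, mul_zero, add_zero] at k1
    field_simp at k1
    refine mul_left_cancel₀ a0 ?_
    linear_combination k1 - b * s ^ 2 * a3
  have y₂ : ∀ s, χ₂ s = 0 := fun s => by
    obtain ⟨μ, hμ, e⟩ := h.mB s
    obtain ⟨μ', hμ', e'⟩ := h.mB (s / b)
    have k := eq_of (Or.inr rfl) (linB h.inj h.esB) c0 fxB (mul_mem mB hμ) (mul_mem hμ' mB)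
      (fun w => by rw [LinearEquiv.mul_apply, LinearEquiv.mul_apply, e, gB, gB, e']; simp [fB])
      fun ⟨u, v, w⟩ => by
        rw [LinearEquiv.mul_apply, LinearEquiv.mul_apply, e, gB, gB, e']
        exact ⟨by simp only; field_simp, rfl⟩
    have k1 := congrArg (fun P : Au (V K) => (P (0, 1, 0)).2.2) k
    simp only [LinearEquiv.mul_apply] at k1
    rw [e, gB, gB, e', z₃] at k1
    simp only [fB, mul_one, zero_add, mul_zero, add_zero, one_pow] at k1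
    field_simp at k1
    linear_combination k1
  exact ⟨a, b, a0, b0, fun m => by rw [all, y₁, y₂, add_zero, add_zero]; rfl⟩

end Ev2

open Ev2

variable {G : Type u} [Group G] [Finite G] {G' : Type v} [Group G'] [Finite G'] {K : Type*}
  [Field K] [Finite K] [CharP K 2] {φ : M K →* G} {φ' : M K →* G'} {g : G}

theorem NF.autS (h : NF φ) (hg : g ∈ nm φ.range) : ∃ (s : M K) (a b : K), a ≠ 0 ∧ b ≠ 0 ∧
    ∀ m, g * φ m * g⁻¹ = φ (s * dg a b m * s⁻¹) := by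
  have h2 : (2 : K) = 0 := CharTwo.two_eq_zero
  obtain ⟨θ, hi⟩ := exists_ind hg
  obtain ⟨c, c0, fxA, fxB⟩ := h.fx
  obtain ⟨γA, mA, eA⟩ := hi.gA h
  obtain ⟨γB, mB, eB⟩ := hi.gB h
  obtain ⟨nA, nB⟩ := even_nm h.inj h.sat
  obtain ⟨t, ht⟩ := adj (Or.inl rfl) (linA h.inj h.esA) c0 fxA h.mA mA fun ⟨u, v, w⟩ e => by
    have := (hi.mem h.inj (nB hg) (m := ⟨0, u, v, w⟩)).1 (by rw [eA, mem_Q, zero_mul]; exact e)
    simpa using this
  obtain ⟨u, hu⟩ := adj (Or.inr rfl) (linB h.inj h.esB) c0 fxB h.mB mB fun ⟨t, v, w⟩ e =>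
    (hi.mem h.inj (nA hg) (m := ⟨t, 0, v, w⟩)).1 (by rw [eB]; exact e)
  obtain ⟨a, b, a0, b0, e⟩ := core h (hi.conj ⟨t, u, 0, 0⟩)
    (fun x => by rw [eA, ht]; simp; linear_combination (t * (γA (x, 0, 0)).1) * h2)
    (fun x => by rw [eB, hu]; simp; ring)
  refine ⟨(⟨t, u, 0, 0⟩ : M K)⁻¹, a, b, a0, b0, fun m => ?_⟩
  rw [hi, ← e]
  congr 1
  group

namespace Ev2

theorem ind_mul {g g' : G} {a b a' b' : K} (h : Ind φ g (dg a b)) (h' : Ind φ g' (dg a' b')) :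
    Ind φ (g * g') (dg (a * a') (b * b')) := fun m => by
  have : dg (a * a') (b * b') m = dg a b (dg a' b' m) := by ext <;> simp [dg] <;> ring
  rw [this, ← h, ← h']; group

theorem ind_dg (h : NF φ) (hg : g ∈ nm φ.range) : ∃ (s : M K) (a b : K), a ≠ 0 ∧ b ≠ 0 ∧
    Ind φ ((φ s)⁻¹ * g) (dg a b) ∧ (g ∈ ce ((Z K).map φ) ↔ a = b) ∧
    ∀ m, g * φ m * g⁻¹ = φ (s * dg a b m * s⁻¹) := by
  obtain ⟨s, a, b, a0, b0, e⟩ := h.autS hg
  have k : ∀ w, g * φ ⟨0, 0, 0, w⟩ * g⁻¹ = φ ⟨0, 0, 0, a ^ 2 * b * w⟩ := fun w => by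
    rw [e]; congr 1; ext <;> simp [dg]
    ring
  refine ⟨s, a, b, a0, b0, fun m => ?_, ⟨fun hc => ?_, ?_⟩, e⟩
  · have := e m
    rw [map_mul, map_mul, map_inv] at this
    calc _ = (φ s)⁻¹ * (g * φ m * g⁻¹) * φ s := by group
      _ = _ := by rw [this]; group
  · have k1 := k 1
    rw [← hc _ ⟨⟨0, 0, 0, 1⟩, ⟨rfl, rfl, rfl⟩, rfl⟩, mul_inv_cancel_right] at k1
    have k2 : (1 : K) = a ^ 2 * b * 1 := congrArg M.w (h.inj k1)
    linear_combination a * k2 + b * cube h a a0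
  · rintro rfl _ ⟨⟨t, u, v, w⟩, ⟨rfl, rfl, rfl⟩, rfl⟩
    rw [eq_comm, ← mul_inv_eq_iff_eq_mul, k, ← pow_succ, cube h a a0, one_mul]

theorem R_diag (h : NF φ) {a : K} (a0 : a ≠ 0) : ∃ g, Ind φ g (dg a a) := by
  obtain ⟨γ, hγ, e1, e2⟩ := lin2_tor (linA h.inj h.esA) h.mA a0
  obtain ⟨g, hg, e⟩ := extA h.inj h.esA hγ
    (lin2_nm (Or.inl rfl) (linA h.inj h.esA) hγ fun y hy => by rw [e2, hy, mul_zero])
  obtain ⟨s, a', b', -, -, k1, k2, k3⟩ := ind_dg h hg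
  obtain rfl : a' = b' := k2.1 (by
    rintro _ ⟨⟨t, u, v, w⟩, ⟨rfl, rfl, rfl⟩, rfl⟩
    have := e (0, 0, w)
    rw [e1, mul_inv_eq_iff_eq_mul] at this
    exact this.symm)
  have k4 := congrArg M.u (h.inj ((k3 _).symm.trans (e (1, 0, 0))))
  rw [e2] at k4
  obtain rfl : a' = a := by simpa [dg] using k4
  exact ⟨_, k1⟩

theorem R_all (h : NF φ) (hP : ¬ nm φ.range ≤ ce ((Z K).map φ)) {a b : K} (a0 : a ≠ 0) (b0 : b ≠ 0) :
    ∃ g, Ind φ g (dg a b) := by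
  obtain ⟨g, hg, hc⟩ := SetLike.not_le_iff_exists.1 hP
  obtain ⟨s, x, y, x0, y0, k1, k2, -⟩ := ind_dg h hg
  obtain ⟨g₁, k3⟩ := R_diag h (inv_ne_zero x0)
  have k4 := ind_mul k1 k3
  rw [mul_inv_cancel₀ x0] at k4
  have c1 : y * x⁻¹ - 1 ≠ 0 := fun e => hc (k2.2 (by
    rw [sub_eq_zero, mul_inv_eq_one₀ x0] at e; exact e.symm))
  have c3 := cube h _ (mul_ne_zero y0 (inv_ne_zero x0))
  generalize y * x⁻¹ = c at k4 c1 c3
  have q : c ^ 2 + c + 1 = 0 := mul_left_cancel₀ c1 (by linear_combination c3)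
  obtain ⟨g₂, k5⟩ := R_diag h a0
  have d3 := cube h _ (mul_ne_zero (inv_ne_zero a0) b0)
  have eb : b = a * (a⁻¹ * b) := (mul_inv_cancel_left₀ a0 b).symm
  generalize a⁻¹ * b = d at d3 eb
  subst eb
  have : (d - 1) * ((d - c) * (d - c * c)) = 0 := by
    linear_combination d3 - (d ^ 2 - d * c + (c - 1)) * q
  rcases mul_eq_zero.1 this with e | e
  · rw [sub_eq_zero.1 e, mul_one]; exact ⟨_, k5⟩
  rcases mul_eq_zero.1 e with e | e
  · rw [sub_eq_zero.1 e]; exact ⟨_, by simpa using ind_mul k5 k4⟩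
  · rw [sub_eq_zero.1 e]; exact ⟨_, by simpa using ind_mul k5 (ind_mul k4 k4)⟩

theorem transS (h : NF φ) (h' : NF φ')
    (hP : nm φ'.range ≤ ce ((Z K).map φ') → nm φ.range ≤ ce ((Z K).map φ)) (hg : g ∈ nm φ.range) :
    ∃ θ g', Ind φ g θ ∧ Ind φ' g' θ := by
  obtain ⟨s, a, b, a0, b0, -, k2, k3⟩ := ind_dg h hg
  obtain ⟨g', k⟩ : ∃ g', Ind φ' g' (dg a b) := by
    by_cases hc : nm φ'.range ≤ ce ((Z K).map φ')
    · rw [← k2.1 (hP hc hg)]; exact R_diag h' a0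
    · exact R_all h' hc a0 b0
  exact ⟨_, _, k3, k.conj s⟩

end Ev2

theorem NF.fwd (h : NF φ) (h' : NF φ')
    (hP : nm φ'.range ≤ ce ((Z K).map φ') → nm φ.range ≤ ce ((Z K).map φ))
    (X : Subgroup (M K)) (f : M K → M K) (g : G) (hg : ∀ x ∈ X, φ (f x) = g * φ x * g⁻¹) :
    ∃ g' : G', ∀ x ∈ X, φ' (f x) = g' * φ' x * g'⁻¹ := by
  obtain ⟨c, c0, fxA, fxB⟩ := h.fx
  have lA : Gam (pA φ) ⊤ ≤ Gam (pA φ') ⊤ :=
    le_of (Or.inl rfl) (linA h.inj h.esA) (linA h'.inj h'.esA) c0 fxA h.mA h'.mA fun γ h1 h2 => by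
      obtain ⟨k, hk, e⟩ := extA h.inj h.esA h1 h2
      obtain ⟨θ, k', i, i'⟩ := transS h h' hP hk
      exact ⟨k', mem_top _, fun y => (i' _).trans (congrArg φ' (h.inj ((i _).symm.trans (e y))))⟩
  have lB : Gam (pB φ) ⊤ ≤ Gam (pB φ') ⊤ :=
    le_of (Or.inr rfl) (linB h.inj h.esB) (linB h'.inj h'.esB) c0 fxB h.mB h'.mB fun γ h1 h2 => by
      obtain ⟨k, hk, e⟩ := extB h.inj h.esB h1 h2
      obtain ⟨θ, k', i, i'⟩ := transS h h' hP hk
      exact ⟨k', mem_top _, fun y => (i' _).trans (congrArg φ' (h.inj ((i _).symm.trans (e y))))⟩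
  have hS := pg_range (p := 2) φ
  have key : ∀ R : Subgroup G, (R = φ.range ∨ (groupFusionSystem φ.range).IsEssential 2 R) → ∀ k ∈ nm R,
      ∃ k' : G', ∀ m n, φ m ∈ R → φ n = k * φ m * k⁻¹ → φ' n = k' * φ' m * k'⁻¹ := by
    intro R hR k hk
    rcases hR with rfl | hR
    · obtain ⟨θ, k', i, i'⟩ := transS h h' hP hk
      exact ⟨k', fun m n _ e => by rw [i', h.inj (e.trans (i m))]⟩
    rcases even_ess h.inj (es_of hS h.sat hR) with rfl | rfl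
    · obtain ⟨γ, e⟩ := gamA h.inj hk
      obtain ⟨k', -, e'⟩ := lA ⟨k, mem_top k, e⟩
      refine ⟨k', fun ⟨t, u, v, w⟩ n hm hn => ?_⟩
      obtain rfl : t = 0 := (mem_map_iff_mem h.inj).1 hm
      rw [h.inj (hn.trans (e (u, v, w)))]
      exact (e' (u, v, w)).symm
    · obtain ⟨γ, e⟩ := gamB h.inj hk
      obtain ⟨k', -, e'⟩ := lB ⟨k, mem_top k, e⟩
      refine ⟨k', fun ⟨t, u, v, w⟩ n hm hn => ?_⟩
      obtain rfl : u = 0 := by simpa using (mem_map_iff_mem h.inj).1 hm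
      rw [h.inj (hn.trans (e (t, v, w)))]
      exact (e' (t, v, w)).symm
  have main := H91.alperin_induction hS h.sat (P := X.map φ)
    (C := fun F => ∃ g' : G', ∀ x ∈ X, ∀ n, φ n = F (φ x) → φ' n = g' * φ' x * g'⁻¹)
    (fun F e => ⟨1, fun x hx n hn => by
      rw [h.inj (hn.trans (e _ (mem_map_of_mem φ hx)))]; group⟩)
    (fun F F' R α hF ⟨g', ih⟩ hR hα h3 h4 => by
      have hRS : R ≤ φ.range := hR.elim Eq.le fun h => h.1.1
      obtain ⟨k, hk, rfl⟩ := (fus_mem_aut hRS).1 hα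
      obtain ⟨k', e⟩ := key R hR k hk
      refine ⟨k' * g', fun x hx n hn => ?_⟩
      have m := h3 _ (mem_map_of_mem φ hx)
      obtain ⟨y, hy⟩ := hRS m
      rw [h4 _ (mem_map_of_mem φ hx), H91.efn_cjAut R k hk m, ← hy] at hn
      rw [e y n (hy ▸ m) hn, ih x hx y hy]
      group)
    (f := fun y => g * y * g⁻¹) (H91.M_group_iff.2 ⟨map_le_range _ _, by
      rintro _ ⟨x, hx, rfl⟩
      exact ⟨_, hg x hx⟩, g, fun _ _ => rfl⟩)
  obtain ⟨g', e⟩ := main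
  exact ⟨g', fun x hx => e x hx _ (hg x hx)⟩

end Cfsg.Agent.SPQ
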