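import Cfsg.Agent.SPQ.Defs
import Cfsg.Agent.SR3.Sp

/-! Project SPQ: the model is a Sylow subgroup of the symplectic group. -/

set_option autoImplicit false

namespace Cfsg.Agent.SPQ

open Matrix Cfsg.Agent.SR3.SpAux

namespace Model

variable {K : Type*} [Field K]

theorem sx_su' (k r s t : K) :
    sx k * su r s t = su (r + 2 * k * s + k ^ 2 * t) (s + k * t) t * sx k := by
  apply Subtype.ext
  change fromBlocks _ _ _ _ * fromBlocks _ _ _ _ = fromBlocks _ _ _ _ * fromBlocks _ _ _ _
  rw [fromBlocks_multiply, fromBlocks_multiply]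
  congr 1 <;> ext i j <;> fin_cases i <;> fin_cases j <;> simp <;> ring

/-- The model inside the symplectic group. -/
def emb (K : Type*) [Field K] : M K →* symplecticGroup (Fin 2) K :=
  MonoidHom.mk' (fun m => su m.w m.v m.u * sx m.t) fun a b => by
    rw [mul_assoc, ← mul_assoc (sx a.t), sx_su', mul_assoc, sx_mul, ← mul_assoc, su_mul]
    congr 2 <;> simp <;> ring

theorem emb_inj : Function.Injective (emb K) := by
  rw [injective_iff_map_eq_one]
  intro m h
  have e := fun i j => congrFun (congrFun (congrArg Subtype.val h) i) j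
  have e1 := e (.inl 0) (.inl 1)
  have e2 := e (.inl 1) (.inr 1)
  have e3 := e (.inl 0) (.inr 1)
  have e4 := e (.inl 0) (.inr 0)
  simp [emb, su, sx, fromBlocks_multiply] at e1 e2 e3 e4
  ext <;> simp_all

end Model

theorem exists_model {p : ℕ} [Fact p.Prime] {K : Type*} [Field K] [Fintype K] [CharP K p]
    (T : Sylow p (Matrix.symplecticGroup (Fin 2) K)) :
    Nonempty (M K ≃* (T : Subgroup (Matrix.symplecticGroup (Fin 2) K))) := by
  have hp : p.Prime := Fact.out
  obtain ⟨n, -, hn⟩ := FiniteField.card K p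
  have c1 : Nat.card (Model.emb K).range = Fintype.card K ^ 4 := by
    rw [← Nat.card_congr (MonoidHom.ofInjective (Model.emb_inj (K := K))).toEquiv,
      Nat.card_congr (M.equiv K)]
    simp only [Nat.card_eq_fintype_card, Fintype.card_prod]
    ring
  have hP : IsPGroup p (Model.emb K).range := IsPGroup.of_card (n := n * 4) (by rw [c1, hn, pow_mul])
  have hi : ¬ p ∣ (Model.emb K).range.index := by
    have e := (Model.emb K).range.card_mul_index
    rw [c1, H9.card_symplecticGroup] at e
    rw [Nat.eq_of_mul_eq_mul_left (pow_pos Fintype.card_pos 4) e]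
    intro hd
    obtain ⟨i, -, hi⟩ := hp.prime.exists_mem_finset_dvd hd
    have h2 : p ∣ Fintype.card K ^ (2 * (i + 1)) :=
      dvd_pow (hn ▸ dvd_pow_self p n.ne_zero) (by omega)
    exact hp.one_lt.ne' (Nat.dvd_one.1 ((Nat.dvd_sub_iff_right
      (Nat.one_le_pow _ _ Fintype.card_pos) h2).1 hi))
  exact ⟨(MonoidHom.ofInjective Model.emb_inj).trans (Sylow.equiv (hP.toSylow hi) T)⟩

end Cfsg.Agent.SPQ
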