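import Cfsg.Agent.SPQ.LinU
import Mathlib.Analysis.Fourier.FiniteAbelian.PontryaginDuality

/-! Project SPQ: the cubic module in odd characteristic has no fixed vector. -/

set_option autoImplicit false

namespace Cfsg.Agent.SPQ

namespace LO

open LU Subgroup

section gen

variable {W : Type*} [AddCommGroup W]

theorem card_sup_inf (A B : AddSubgroup W) :
    Nat.card ↥(A ⊔ B) * Nat.card ↥(A ⊓ B) = Nat.card A * Nat.card B := by
  have h : ∀ {X Y : AddSubgroup W}, X ≤ Y → Nat.card X * X.relIndex Y = Nat.card Y :=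
    fun {X Y} h => by
      rw [AddSubgroup.relIndex, ← (X.addSubgroupOf Y).card_mul_index,
        Nat.card_congr (AddSubgroup.addSubgroupOfEquivOfLe h).toEquiv]
  rw [← h (le_sup_right : B ≤ A ⊔ B), ← h (inf_le_left : A ⊓ B ≤ A), AddSubgroup.relIndex_sup_right,
    AddSubgroup.inf_relIndex_left]
  ring

theorem card_map_mul (X : AddSubgroup W) (φ : W →+ W) :
    Nat.card ↥(X ⊓ φ.ker) * Nat.card (X.map φ) = Nat.card X := by
  rw [← (φ.comp X.subtype).ker.card_mul_index, AddSubgroup.index_ker, AddMonoidHom.range_comp,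
    AddSubgroup.range_subtype, ← AddMonoidHom.comap_ker, AddSubgroup.comap_subtype,
    ← AddSubgroup.inf_addSubgroupOf_left,
    Nat.card_congr (AddSubgroup.addSubgroupOfEquivOfLe (inf_le_left : X ⊓ φ.ker ≤ X)).toEquiv]

/-- the image of a subgroup -/
def im (g : Au W) (X : AddSubgroup W) : AddSubgroup W := X.map (g : W →+ W)

theorem mem_im {g : Au W} {X : AddSubgroup W} {y : W} : y ∈ im g X ↔ g⁻¹ y ∈ X :=
  ⟨fun ⟨x, hx, e⟩ => by rw [← e]; exact (Au.inv_apply g x).symm ▸ hx,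
    fun h => ⟨_, h, Au.apply_inv g y⟩⟩

theorem app_mem {g : Au W} {X : AddSubgroup W} {y : W} (h : y ∈ X) : g y ∈ im g X := ⟨y, h, rfl⟩

theorem card_im (g : Au W) (X : AddSubgroup W) : Nat.card (im g X) = Nat.card X :=
  AddSubgroup.card_map_of_injective g.injective

theorem im_sup (g : Au W) (X Y : AddSubgroup W) : im g (X ⊔ Y) = im g X ⊔ im g Y :=
  AddSubgroup.map_sup _ _ _

theorem im_inf (g : Au W) (X Y : AddSubgroup W) : im g (X ⊓ Y) = im g X ⊓ im g Y :=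
  AddSubgroup.map_inf _ _ _ g.injective

theorem im_mul (g k : Au W) (X : AddSubgroup W) : im (g * k) X = im g (im k X) :=
  AddSubgroup.ext fun y => by rw [mem_im, mem_im, mem_im, mul_inv_rev]; rfl

theorem im_le {g : Au W} {X Y : AddSubgroup W} : im g X ≤ Y ↔ ∀ x ∈ X, g x ∈ Y :=
  AddSubgroup.map_le_iff_le_comap

theorem im_eq [Finite W] {g : Au W} {X : AddSubgroup W} (h : im g X ≤ X) : im g X = X :=
  AddSubgroup.eq_of_le_of_card_ge h (card_im g X).ge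

theorem im_inv {g : Au W} {X : AddSubgroup W} (h : im g X = X) : im g⁻¹ X = X := by
  conv_lhs => rw [← h, ← im_mul, inv_mul_cancel]
  exact AddSubgroup.map_id X

theorem chars [Finite W] {ι : Type*} [Finite ι] (A Y : AddSubgroup W) (T : ι → AddSubgroup W)
    (X : ι → AddSubgroup W) (hA : ∀ i, A ≤ T i) (hX : ∀ i, X i ≤ T i) (hY : ∀ i, ¬ Y ≤ T i)
    (h : ∀ i j, i ≠ j → Y ≤ X i ⊔ X j) : Nat.card ι < A.index := by
  classical
  have h1 : ∀ i, ∃ ψ : AddChar (W ⧸ A) ℂ, (∀ x ∈ X i, ψ (x : W ⧸ A) = 1) ∧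
      ∃ y ∈ Y, ψ (y : W ⧸ A) ≠ 1 := fun i => by
    obtain ⟨y, hy, hy'⟩ := SetLike.not_le_iff_exists.1 (hY i)
    obtain ⟨ψ, hψ⟩ := (AddChar.exists_apply_ne_zero (a := (y : W ⧸ T i))).2
      fun e => hy' ((QuotientAddGroup.eq_zero_iff y).1 e)
    refine ⟨ψ.compAddMonoidHom (QuotientAddGroup.map A (T i) (AddMonoidHom.id W) (hA i)),
      fun x hx => ?_, y, hy, hψ⟩
    change ψ (x : W ⧸ T i) = 1
    rw [(QuotientAddGroup.eq_zero_iff x).2 (hX i hx), AddChar.map_zero_eq_one]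
  choose ψ h2 h3 using h1
  have := Fintype.ofFinite (W ⧸ A)
  have hc : Nat.card (AddChar (W ⧸ A) ℂ) = A.index := by
    rw [Nat.card_eq_fintype_card, AddChar.card_eq, ← Nat.card_eq_fintype_card]; rfl
  have hi : Function.Injective (fun o : Option ι => o.elim 1 ψ) := by
    have h4 : ∀ i, ψ i ≠ 1 := fun i e => by
      obtain ⟨y, -, hy⟩ := h3 i
      exact hy (by rw [e]; rfl)
    rintro (_ | i) (_ | j) e
    · rfl
    · exact absurd e.symm (h4 j)
    · exact absurd e (h4 i)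
    · by_contra hij
      obtain ⟨y, hy, hy'⟩ := h3 i
      obtain ⟨a, ha, b, hb, rfl⟩ := AddSubgroup.mem_sup.1 (h i j (fun e => hij (e ▸ rfl)) hy)
      have e' : ψ i = ψ j := e
      rw [QuotientAddGroup.mk_add, AddChar.map_add_eq_mul, h2 i a ha, e', h2 j b hb, one_mul] at hy'
      exact hy' rfl
  have := Nat.card_le_card_of_injective _ hi
  rw [Finite.card_option, hc] at this
  exact this

end gen

/-- the fixed points of `N` -/
def Za (K : Type*) [Field K] : AddSubgroup (V K) where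
  carrier := {y | y.1 = 0 ∧ y.2.1 = 0}
  zero_mem' := ⟨rfl, rfl⟩
  add_mem' := fun {a b} ha hb => by simp_all
  neg_mem' := fun {a} ha => by simp_all

/-- the commutator space of `N` -/
def Zb (K : Type*) [Field K] : AddSubgroup (V K) where
  carrier := {y | y.1 = 0}
  zero_mem' := rfl
  add_mem' := fun {a b} ha hb => by simp_all
  neg_mem' := fun {a} ha => by simp_all

variable {p : ℕ} {K : Type*} [Field K] {N Γ : Subgroup (Au (V K))} {c t : K} {n g : Au (V K)}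

theorem mem_a {y : V K} : y ∈ Za K ↔ y.1 = 0 ∧ y.2.1 = 0 := Iff.rfl

theorem mem_b {y : V K} : y ∈ Zb K ↔ y.1 = 0 := Iff.rfl

theorem a_le_b : Za K ≤ Zb K := fun _ h => h.1

theorem eq_a {y : V K} (h : y ∈ Za K) : y = (0, 0, y.2.2) := Prod.ext h.1 (Prod.ext h.2 rfl)

theorem card_a : Nat.card (Za K) = Nat.card K := Nat.card_congr
  ⟨fun y => y.1.2.2, fun w => ⟨(0, 0, w), rfl, rfl⟩, fun y => Subtype.ext (eq_a y.2).symm,
    fun _ => rfl⟩

theorem card_b : Nat.card (Zb K) = Nat.card K * Nat.card K := (Nat.card_congr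
  ⟨fun y => y.1.2, fun w => ⟨(0, w), rfl⟩, fun y => Subtype.ext (Prod.ext y.2.symm rfl),
    fun _ => rfl⟩).trans (Nat.card_prod K K)

omit [Field K] in
theorem card_V : Nat.card (V K) = Nat.card K * (Nat.card K * Nat.card K) := by
  rw [Nat.card_prod, Nat.card_prod]

theorem sub_eq (h : IsN fA t n) (y : V K) :
    n y - y = (0, t * y.1, 2 * t * y.2.1 + t ^ 2 * y.1) := by
  obtain ⟨u, v, w⟩ := y
  rw [h]
  simp [fA, add_assoc]

theorem fix_a (h : IsN fA t n) {y : V K} (hy : y ∈ Za K) : n y = y := by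
  rw [eq_a hy, isN_V0 h]

theorem sub_b (h : IsN fA t n) (y : V K) : n y - y ∈ Zb K := by rw [sub_eq h]; rfl

theorem sub_a (h : IsN fA t n) {y : V K} (hy : y ∈ Zb K) : n y - y ∈ Za K := by
  rw [sub_eq h, show y.1 = 0 from hy]; exact ⟨rfl, mul_zero _⟩

theorem a_of_fix (h2 : (2 : K) ≠ 0) (h : IsN fA t n) (ht : t ≠ 0) {y : V K} (hy : n y = y) :
    y ∈ Za K := by
  have e := sub_eq h y
  rw [hy, sub_self] at e
  have e1 : y.1 = 0 := (mul_eq_zero.1 (congrArg (fun z : V K => z.2.1) e).symm).resolve_left ht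
  have e2 := (congrArg (fun z : V K => z.2.2) e).symm
  simp only [e1, mul_zero, add_zero, Prod.snd_zero] at e2
  exact ⟨e1, (mul_eq_zero.1 e2).resolve_left (mul_ne_zero h2 ht)⟩

theorem ex_sub (h2 : (2 : K) ≠ 0) (h : IsN fA t n) (ht : t ≠ 0) {z : V K} (hz : z ∈ Zb K) :
    ∃ y, n y - y = z := by
  refine ⟨(z.2.1 / t, (z.2.2 - t * z.2.1) / (2 * t), 0), ?_⟩
  rw [sub_eq h]
  exact Prod.ext hz.symm (Prod.ext (by field_simp) (by field_simp; ring))

/-- `γ` stabilises both subspaces -/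
def PB (γ : Au (V K)) : Prop := im γ (Za K) = Za K ∧ im γ (Zb K) = Zb K

theorem PB.inv (h : PB g) : PB g⁻¹ := ⟨im_inv h.1, im_inv h.2⟩

theorem PB.mul {k : Au (V K)} (h : PB g) (h' : PB k) : PB (g * k) :=
  ⟨by rw [im_mul, h'.1, h.1], by rw [im_mul, h'.2, h.2]⟩

theorem app_of {X : AddSubgroup (V K)} (h : im g X = X) {y : V K} (hy : y ∈ X) : g y ∈ X :=
  h ▸ app_mem hy

variable [Finite K]

theorem pb_N (h : IsN fA t n) : PB n :=
  ⟨im_eq (im_le.2 fun x hx => by rwa [fix_a h hx]), im_eq (im_le.2 fun x hx => by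
    simpa using add_mem (sub_b h x) hx)⟩

/-- the standing hypotheses -/
structure H (p : ℕ) (N Γ : Subgroup (Au (V K))) (c : K) : Prop extends Lin0 p fA N Γ where
  two : (2 : K) ≠ 0
  hc : c ≠ 0
  hx : ∀ γ ∈ Γ, γ (0, 0, c) ∈ Za K

variable [Fact p.Prime] [CharP K p] (h : H p N Γ c)
include h

omit [Finite K] [Fact p.Prime] [CharP K p] in
theorem H.ex_a {x z : V K} (hx : x ∈ Zb K) (hx' : x ∉ Za K) (hz : z ∈ Za K) :
    ∃ n ∈ N, ∃ t, IsN fA t n ∧ n x - x = z := by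
  have hv : x.2.1 ≠ 0 := fun e => hx' ⟨hx, e⟩
  obtain ⟨n, hn, ht⟩ := h.ex (z.2.2 / (2 * x.2.1))
  refine ⟨n, hn, _, ht, ?_⟩
  rw [sub_eq ht, show x.1 = 0 from hx]
  have := h.two
  exact Prod.ext hz.1.symm (Prod.ext (by rw [hz.2, mul_zero]) (by field_simp; ring))

omit [Finite K] [Fact p.Prime] [CharP K p] in
theorem H.ne_zero (ht : IsN fA t n) (h1 : n ≠ 1) : t ≠ 0 := by
  rintro rfl
  exact h1 (isN_eq ht h.zero)

omit [Finite K] [Fact p.Prime] [CharP K p] in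
theorem H.c_mem (hg : g ∈ Γ) : ((0, 0, c) : V K) ∈ Za K ⊓ im g (Za K) :=
  ⟨⟨rfl, rfl⟩, mem_im.2 (h.hx _ (inv_mem hg))⟩

omit [Finite K] in
theorem H.conj_mem (hg : g ∈ Γ) (hB : PB g) (hn : n ∈ N) : g * n * g⁻¹ ∈ N := by
  obtain ⟨t, ht⟩ := h.mem n hn
  have e : ∀ y, (g * n * g⁻¹) y - y = g (n (g⁻¹ y) - g⁻¹ y) := fun y => by
    rw [map_sub, Au.apply_inv]; rfl
  refine h.mem_N (mul_mem (mul_mem hg (h.syl.le hn)) (inv_mem hg)) (fun y => ?_) (fun y hy => ?_)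
    fun w => ?_
  · have := app_of hB.2 (sub_b ht (g⁻¹ y))
    rw [← e] at this
    exact sub_eq_zero.1 this
  · have := app_of hB.1 (sub_a ht (app_of hB.inv.2 hy))
    rw [← e] at this
    exact sub_eq_zero.1 this.2
  · rw [← sub_eq_zero, e, fix_a ht (app_of hB.inv.1 ⟨rfl, rfl⟩), sub_self, map_zero]

omit [Fact p.Prime] [CharP K p] in
theorem H.ti (ht : IsN fA t n) (t0 : t ≠ 0) (hm : g * n * g⁻¹ ∈ N) : PB g := by
  obtain ⟨s, hs⟩ := h.mem _ hm
  have s0 : s ≠ 0 := h.ne_zero hs fun e => by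
    rw [conj_eq_one_iff] at e
    have := sub_eq ht (1, 0, 0)
    rw [e] at this
    simpa [t0] using (congrArg (fun z : V K => z.2.1) this).symm
  have e : ∀ y, (g * n * g⁻¹) (g y) = g (n y) := fun y => by
    change g (n (g⁻¹ (g y))) = _
    rw [Au.inv_apply]
  refine ⟨im_eq (im_le.2 fun x hx => a_of_fix h.two hs s0 (by rw [e, fix_a ht hx])),
    im_eq (im_le.2 fun x hx => ?_)⟩
  obtain ⟨y, rfl⟩ := ex_sub h.two ht t0 hx
  rw [map_sub, ← e]
  exact sub_b hs _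

theorem H.sr (hg : g ∈ Γ) (hn : n ∈ N) (ht : IsN fA t n) (t0 : t ≠ 0) (hB : PB (g⁻¹ * n * g)) :
    PB g := by
  let B : Subgroup (Au (V K)) :=
    { carrier := {γ | γ ∈ Γ ∧ PB γ}
      one_mem' := ⟨one_mem _, AddSubgroup.map_id _, AddSubgroup.map_id _⟩
      mul_mem' := fun ha hb => ⟨mul_mem ha.1 hb.1, ha.2.mul hb.2⟩
      inv_mem' := fun ha => ⟨inv_mem ha.1, ha.2.inv⟩ }
  have hS : H91.SylIn p N B := h.syl.of_le (fun m hm => ⟨h.syl.le hm, by
    obtain ⟨s, hs⟩ := h.mem m hm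
    exact pb_N hs⟩) fun _ hm => hm.1
  obtain ⟨a, ha, hc⟩ := hS.exists_conj_mem (H := (zpowers n).map (MulAut.conj g⁻¹).toMonoidHom)
    ((h.syl.isPGroup.to_le (zpowers_le.2 hn)).map _) (by
      rw [MonoidHom.map_zpowers, zpowers_le]
      exact ⟨mul_mem (mul_mem (inv_mem hg) (h.syl.le hn)) hg, hB⟩)
  have h1 := h.conj_mem (inv_mem ha.1) ha.2.inv (hc _ ⟨n, mem_zpowers n, rfl⟩)
  have h2 : g⁻¹ * n * g⁻¹⁻¹ ∈ N := by simpa [mul_assoc] using h1
  exact inv_inv g ▸ (h.ti ht t0 h2).inv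

omit [CharP K p] in
theorem H.gz (hg : g ∈ Γ) {x : V K} (hx : x ∈ im g (Za K)) (hb : x ∈ Zb K) : x ∈ Za K := by
  by_contra ha
  obtain ⟨n, hn, t, ht, e⟩ := h.ex_a hb ha (z := (0, 0, c)) ⟨rfl, rfl⟩
  have := F1 h.syl hg hn (x := x) (Za K ⊓ im g (Za K)) (fun d hd => fix_a ht hd.1)
    (fun m hm d hd => by obtain ⟨s, hs⟩ := h.mem m hm; exact fix_a hs (mem_im.1 hd.2))
    (fun m hm => by obtain ⟨s, hs⟩ := h.mem m hm; exact fix_a hs (mem_im.1 hx))
    (e ▸ h.c_mem hg)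
  rw [this, sub_self] at e
  exact h.hc (congrArg (fun z : V K => z.2.2) e).symm

omit [CharP K p] in
theorem H.f2 {x : V K} (hb : x ∈ Zb K) (ha : x ∉ Za K) {J : Subgroup (Au (V K))} (hJ : J ≤ Γ)
    (hx : ∀ k ∈ J, k x = x) : ¬ p ∣ Nat.card J := fun hd => by
  obtain ⟨k, hk⟩ := exists_prime_orderOf_dvd_card' p hd
  rw [← orderOf_coe] at hk
  obtain ⟨a, haΓ, hc⟩ := h.syl.exists_conj_mem (H := zpowers (k : Au (V K)))
    (IsPGroup.of_card (n := 1) (by rw [Nat.card_zpowers, hk, pow_one])) (zpowers_le.2 (hJ k.2))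
  obtain ⟨s, hs⟩ := h.mem _ (hc _ (mem_zpowers _))
  have s0 := h.ne_zero hs fun e => by
    rw [conj_eq_one_iff] at e
    rw [e, orderOf_one] at hk
    exact (Fact.out : p.Prime).one_lt.ne hk
  refine ha (h.gz (inv_mem haΓ) (mem_im.2 (a_of_fix h.two hs s0 ?_)) hb)
  rw [inv_inv]
  change a ((k : Au (V K)) (a⁻¹ (a x))) = a x
  rw [Au.inv_apply, hx k k.2]

omit [CharP K p] in
theorem H.low (hg : g ∈ Γ) : Nat.card K * (Nat.card K * Nat.card K) ≤
    Nat.card ↥(Zb K ⊔ im g (Zb K)) * Nat.card ↥(Za K ⊓ im g (Za K)) := by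
  have h1 := card_sup_inf (Zb K) (im g (Za K))
  rw [card_im, card_a, card_b, show Zb K ⊓ im g (Za K) = Za K ⊓ im g (Za K) from
    le_antisymm (fun x hx => ⟨h.gz hg hx.2 hx.1, hx.2⟩) (inf_le_inf_right _ a_le_b)] at h1
  rw [mul_comm, ← h1]
  exact Nat.mul_le_mul_right _ (AddSubgroup.card_le_of_le
    (sup_le_sup_left (AddSubgroup.map_mono a_le_b) _))

theorem H.dec (hg : g ∈ Γ) {x : V K} (hb : x ∈ Zb K) (hb' : x ∈ im g (Zb K)) (ha : x ∉ Za K) :
    Nat.card ↥(Zb K ⊔ im g (Zb K)) * Nat.card ↥(Za K ⊓ im g (Za K)) ≤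
      Nat.card K * (Nat.card K * Nat.card K) := by
  classical
  have hcD := h.c_mem hg
  set D := Za K ⊓ im g (Za K) with hD
  have c0 : ((0, 0, c) : V K) ≠ 0 := fun e => h.hc (congrArg (fun z : V K => z.2.2) e)
  obtain ⟨n, hn, t, ht, e⟩ := h.ex_a hb ha hcD.1
  obtain ⟨n', hn', t', ht', e'⟩ := h.ex_a (mem_im.1 hb')
    (fun c => ha (h.gz hg (mem_im.2 c) hb)) (mem_im.1 hcD.2)
  have t0 : t ≠ 0 := h.ne_zero ht (by rintro rfl; exact c0 (e.symm.trans (sub_self x)))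
  have t0' : t' ≠ 0 := h.ne_zero ht' (by
    rintro rfl
    exact c0 ((g⁻¹).map_eq_zero_iff.1 (e'.symm.trans (sub_self _))))
  obtain ⟨m, hm⟩ : ∃ m, m = g * n' * g⁻¹ := ⟨_, rfl⟩
  have me : ∀ y, m y - y = g (n' (g⁻¹ y) - g⁻¹ y) := fun y => by
    rw [hm, map_sub, Au.apply_inv]; rfl
  let J : Subgroup (Au (V K)) :=
    { carrier := {k | k ∈ Γ ∧ k x = x ∧ ∀ d ∈ D, k d = d}
      one_mem' := ⟨one_mem _, rfl, fun _ _ => rfl⟩
      mul_mem' := fun {a b} ha hb => ⟨mul_mem ha.1 hb.1,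
        by rw [LinearEquiv.mul_apply, hb.2.1, ha.2.1],
        fun d hd => by rw [LinearEquiv.mul_apply, hb.2.2 d hd, ha.2.2 d hd]⟩
      inv_mem' := fun ha => ⟨inv_mem ha.1, inv_fix ha.2.1, fun d hd => inv_fix (ha.2.2 d hd)⟩ }
  have hJ : ¬ p ∣ Nat.card J := h.f2 hb ha (fun _ hk => hk.1) fun _ hk => hk.2.1
  have nx : n x = x + (0, 0, c) := by rw [← e, add_sub_cancel]
  have cj : ∀ k ∈ J, n⁻¹ * k * n ∈ J := fun k hk =>
    ⟨mul_mem (mul_mem (inv_mem (h.syl.le hn)) hk.1) (h.syl.le hn), by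
      change n⁻¹ (k (n x)) = x
      rw [nx, map_add, hk.2.1, hk.2.2 _ hcD, ← nx, Au.inv_apply], fun d hd => by
      change n⁻¹ (k (n d)) = d
      rw [fix_a ht hd.1, hk.2.2 d hd, inv_fix (fix_a ht hd.1)]⟩
  have k0 : n⁻¹ * m ∈ J :=
    ⟨mul_mem (inv_mem (h.syl.le hn)) (hm ▸ mul_mem (mul_mem hg (h.syl.le hn')) (inv_mem hg)), by
      have := me x
      rw [e', Au.apply_inv, ← e, sub_left_inj] at this
      rw [LinearEquiv.mul_apply, this, Au.inv_apply], fun d hd => by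
      have := me d
      rw [fix_a ht' (mem_im.1 hd.2), sub_self, map_zero, sub_eq_zero] at this
      rw [LinearEquiv.mul_apply, this, inv_fix (fix_a ht hd.1)]⟩
  have := Fintype.ofFinite J
  let π : V K →+ V K := ∑ k : J, ((k : Au (V K)) : V K →+ V K)
  have hπ : ∀ y, π y = ∑ k : J, (k : Au (V K)) y := fun y => AddMonoidHom.finsetSum_apply _ _ _
  have π1 : ∀ y, π (n y) = n (π y) := fun y => by
    rw [hπ, hπ, map_sum]
    refine Fintype.sum_bijective (fun k : J => (⟨_, cj k k.2⟩ : J))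
      (Finite.injective_iff_bijective.1 fun a b e => Subtype.ext (by
        simpa using congrArg Subtype.val e)) _ _ fun k => ?_
    change _ = n (n⁻¹ ((k : Au (V K)) (n y)))
    rw [Au.apply_inv]
  have π2 : ∀ y, π (m y) = n (π y) := fun y => by
    have : m y = n ((n⁻¹ * m) y) := (Au.apply_inv _ _).symm
    rw [this, π1, hπ, hπ]
    exact congrArg n (Fintype.sum_equiv (Equiv.mulRight (⟨_, k0⟩ : J)) _ _ fun k => rfl)
  let δ : V K →+ V K := (n : V K →+ V K) - AddMonoidHom.id _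
  have h1 : (Zb K ⊔ im g (Zb K)).map π ≤ π.range.map δ := by
    rw [AddSubgroup.map_le_iff_le_comap]
    refine sup_le (fun z hz => ?_) fun z hz => ?_
    · obtain ⟨y, rfl⟩ := ex_sub h.two ht t0 hz
      exact ⟨π y, ⟨y, rfl⟩, by rw [map_sub, π1]; rfl⟩
    · obtain ⟨y, hy⟩ := ex_sub h.two ht' t0' (mem_im.1 hz)
      have := me (g y)
      rw [Au.inv_apply, hy, Au.apply_inv] at this
      exact ⟨π (g y), ⟨_, rfl⟩, by rw [← this, map_sub, π2]; rfl⟩
  have h2 : D ≤ π.range ⊓ δ.ker := fun d hd => by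
    refine ⟨?_, sub_eq_zero.2 (fix_a ht hd.1)⟩
    obtain ⟨a, ha⟩ := Nat.exists_mul_mod_eq_one_of_coprime
      ((Nat.Prime.coprime_iff_not_dvd Fact.out).2 hJ).symm (Fact.out : p.Prime).one_lt
    refine ⟨a • d, ?_⟩
    rw [map_nsmul, hπ, Finset.sum_congr rfl fun (k : J) _ => k.2.2.2 d hd, Finset.sum_const,
      Finset.card_univ, ← Nat.card_eq_fintype_card, smul_smul, ← Nat.cast_smul_eq_nsmul K,
      CharP.cast_eq_mod K p, mul_comm, ha.2, Nat.cast_one, one_smul]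
  have c1 := card_map_mul (Zb K ⊔ im g (Zb K)) π
  have c2 := card_map_mul π.range δ
  have c3 := π.ker.card_mul_index
  rw [AddSubgroup.index_ker, card_V] at c3
  have c4 := AddSubgroup.card_le_of_le h1
  have c5 := AddSubgroup.card_le_of_le h2
  have c6 := AddSubgroup.card_le_of_le (inf_le_right : (Zb K ⊔ im g (Zb K)) ⊓ π.ker ≤ π.ker)
  rw [← c1, ← c3, ← c2, mul_assoc, mul_comm (Nat.card ↥(π.range ⊓ δ.ker))]
  exact Nat.mul_le_mul c6 (Nat.mul_le_mul c4 c5)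

omit h [Fact p.Prime] [CharP K p] in
theorem big (hle : Zb K ⊓ im g (Zb K) ≤ Za K) :
    Zb K ⊔ im g (Zb K) = ⊤ ∧ Zb K ⊓ im g (Zb K) = Za K := by
  have h1 := card_sup_inf (Zb K) (im g (Zb K))
  have h2 := (Zb K ⊔ im g (Zb K)).card_le_card_addGroup
  have h3 := AddSubgroup.card_le_of_le hle
  rw [card_im, card_b] at h1
  rw [card_V] at h2
  rw [card_a] at h3
  have h4 : 0 < Nat.card K := Nat.card_pos
  refine ⟨AddSubgroup.eq_top_of_le_card _ ?_, AddSubgroup.eq_of_le_of_card_ge hle ?_⟩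
  · rw [card_V]
    exact Nat.le_of_mul_le_mul_right (by nlinarith) h4
  · rw [card_a]
    exact Nat.le_of_mul_le_mul_left (a := _) (b := _) (by nlinarith)
      (show 0 < Nat.card K * (Nat.card K * Nat.card K) by positivity)

omit [CharP K p] in
theorem H.nox (hg : g ∈ Γ) (hle : Zb K ⊓ im g (Zb K) ≤ Za K) : im g (Za K) = Za K := by
  have : im g⁻¹ (Za K) = Za K := im_eq (im_le.2 fun x hx =>
    h.gz (inv_mem hg) (app_mem hx) (mem_im.1 ((big hle).2.ge hx).2))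
  exact inv_inv g ▸ im_inv this

theorem H.ti2 (hg : g ∈ Γ) (hZ : im g (Za K) = Za K) {x : V K} (hb : x ∈ Zb K)
    (hb' : x ∈ im g (Zb K)) (ha : x ∉ Za K) : PB g := by
  have h1 := h.dec hg hb hb' ha
  rw [hZ, inf_idem, card_a, mul_comm] at h1
  have h2 : Zb K = Zb K ⊔ im g (Zb K) := AddSubgroup.eq_of_le_of_card_ge le_sup_left
    (card_b (K := K) ▸ Nat.le_of_mul_le_mul_left h1 Nat.card_pos)
  exact ⟨hZ, im_eq (le_sup_right.trans h2.ge)⟩

theorem H.caseI (hp : p ≠ 2) (hg : g ∈ Γ) (hB : ¬ PB g) (hZ : im g (Za K) = Za K) {τ : Au (V K)}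
    (hτ : τ ∈ Γ) (τ1 : ∀ y, (τ y).1 = y.1) (τ2 : ∀ v w, (τ (0, v, w)).2.1 = -v)
    (τ3 : ∀ w, τ (0, 0, w) = (0, 0, w)) : False := by
  have h2 := h.two
  have htop := (big fun x hx => by_contra fun c => hB (h.ti2 hg hZ hx.1 hx.2 c)).1
  obtain ⟨z, hz, x', hx', e⟩ := AddSubgroup.mem_sup.1 (htop.ge (AddSubgroup.mem_top (1, 0, 0)))
  have x1 : x'.1 = 1 := by
    have := congrArg Prod.fst e
    rwa [Prod.fst_add, show z.1 = 0 from hz, zero_add] at this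
  obtain ⟨n, hn, ht⟩ := h.ex ((τ (1, 0, 0)).2.1 / 2 - x'.2.1)
  have y1 : (n x').1 = 1 := by
    have := sub_b ht x'
    rwa [mem_b, Prod.fst_sub, x1, sub_eq_zero] at this
  have y2 : (n x').2.1 = (τ (1, 0, 0)).2.1 / 2 := by
    have := congrArg (fun z : V K => z.2.1) (sub_eq ht x')
    simp only [Prod.snd_sub, Prod.fst_sub, x1] at this
    linear_combination this
  have τa : ∀ y ∈ Za K, τ y = y := fun y hy => by rw [eq_a hy, τ3]
  have τy : τ (n x') - n x' ∈ Za K := by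
    refine ⟨by rw [Prod.fst_sub, τ1, sub_self], ?_⟩
    have : n x' = (1, 0, 0) + (0, (τ (1, 0, 0)).2.1 / 2, (n x').2.2) :=
      Prod.ext (by simp [y1]) (Prod.ext (by simp [y2]) (by simp))
    rw [Prod.snd_sub, Prod.fst_sub, y2, this, map_add, Prod.snd_add, Prod.fst_add, τ2]
    field_simp
    ring
  obtain ⟨k, hk⟩ : ∃ k, k = n * g := ⟨_, rfl⟩
  have kΓ : k ∈ Γ := hk ▸ mul_mem (h.syl.le hn) hg
  have kZ : im k (Za K) = Za K := by rw [hk, im_mul, hZ, (pb_N ht).1]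
  have xb : k⁻¹ (n x') ∈ Zb K := by
    rw [← mem_im, hk, im_mul]; exact app_mem hx'
  have xa : k⁻¹ (n x') ∉ Za K := fun c => by
    rw [← mem_im, kZ] at c
    exact one_ne_zero (y1.symm.trans c.1)
  have ka : ∀ y ∈ Za K, (k⁻¹ * τ * k) y = y := fun y hy => by
    change k⁻¹ (τ (k y)) = y
    rw [τa _ (app_of kZ hy), Au.inv_apply]
  have kx : (k⁻¹ * τ * k) (k⁻¹ (n x')) - k⁻¹ (n x') ∈ Za K := by
    change k⁻¹ (τ (k (k⁻¹ _))) - _ ∈ _
    rw [Au.apply_inv, ← map_sub]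
    exact app_of (im_inv kZ) τy
  have lΓ : k⁻¹ * τ * k ∈ Γ := mul_mem (mul_mem (inv_mem kΓ) hτ) kΓ
  obtain ⟨l, hl⟩ : ∃ l, l = k⁻¹ * τ * k := ⟨_, rfl⟩
  rw [← hl] at ka kx lΓ
  generalize k⁻¹ (n x') = x at xb xa kx
  have lb : l x ∈ Zb K := by simpa using add_mem (a_le_b kx) xb
  have lB : PB l := h.ti2 lΓ (im_eq (im_le.2 fun y hy => by rwa [ka y hy])) lb (app_mem xb)
    fun c => xa (by simpa using sub_mem c kx)
  obtain ⟨m, hm, hm1⟩ := h.ex 1
  obtain ⟨s, hs⟩ := h.mem _ (h.conj_mem lΓ lB hm)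
  have cm : ∀ y, l (m y - y) = (l * m * l⁻¹) (l y) - l y := fun y => by
    rw [map_sub]
    change _ = l (m (l⁻¹ (l y))) - _
    rw [Au.inv_apply]
  obtain rfl : s = 1 := by
    have e1 := cm x
    rw [ka _ (sub_a hm1 xb), sub_eq hm1, sub_eq hs, show (l x).1 = 0 from lb,
      show x.1 = 0 from xb, show (l x).2.1 = x.2.1 from sub_eq_zero.1 kx.2] at e1
    have e2 := congrArg (fun z : V K => z.2.2) e1
    have hv : x.2.1 ≠ 0 := fun e => xa ⟨xb, e⟩
    simp only [mul_zero, add_zero] at e2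
    exact (mul_left_cancel₀ h2 (mul_right_cancel₀ hv e2)).symm
  have l2 : ∀ y : V K, y.1 = 0 → (l y).2.1 = y.2.1 := fun y hy => by
    have e1 := cm y
    rw [ka _ (sub_a hm1 hy), sub_eq hm1, sub_eq hs, show (l y).1 = 0 from app_of lB.2 hy, hy] at e1
    have e2 := congrArg (fun z : V K => z.2.2) e1
    simp only [mul_zero, add_zero, mul_one] at e2
    exact (mul_left_cancel₀ h2 e2).symm
  have lN : l ∈ N := h.mem_N lΓ (fun y => by
    have e1 := l2 _ (sub_b hm1 y)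
    rw [cm, sub_eq hm1, sub_eq hs] at e1
    simpa using e1) l2 fun w => ka _ ⟨rfl, rfl⟩
  obtain ⟨j, hj⟩ := h.syl.isPGroup ⟨l, lN⟩
  have hτj : τ ^ p ^ j = 1 := by
    have : l ^ p ^ j = 1 := congrArg Subtype.val hj
    rw [hl, show k⁻¹ * τ * k = k⁻¹ * τ * k⁻¹⁻¹ by rw [inv_inv], conj_pow, conj_eq_one_iff] at this
    exact this
  have pw : ∀ i : ℕ, ((τ ^ i) (0, 1, 0)).1 = 0 ∧ ((τ ^ i) (0, 1, 0)).2.1 = (-1) ^ i := fun i => by
    induction i with
    | zero => exact ⟨rfl, by simp⟩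
    | succ i ih =>
      rw [pow_succ', LinearEquiv.mul_apply, τ1]
      refine ⟨ih.1, ?_⟩
      rw [show (τ ^ i) (0, 1, 0) = (0, (-1) ^ i, ((τ ^ i) (0, 1, 0)).2.2) from
        Prod.ext ih.1 (Prod.ext ih.2 rfl), τ2, pow_succ]
      ring
  have := (pw (p ^ j)).2
  rw [hτj, (((Fact.out : p.Prime).odd_of_ne_two hp).pow).neg_one_pow] at this
  have e3 : (1 : K) = -1 := this
  exact h2 (by linear_combination e3)

theorem H.eq (h0 : ∀ g ∈ Γ, ¬ PB g → im g (Za K) ≠ Za K) {a b : Au (V K)} (ha : a ∈ Γ)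
    (hb : b ∈ Γ) (hB : ¬ PB (a⁻¹ * b)) :
    Nat.card ↥(im a (Zb K) ⊔ im b (Zb K)) * Nat.card ↥(im a (Za K) ⊓ im b (Za K)) =
        Nat.card K * (Nat.card K * Nat.card K) ∧
      Nat.card ↥(im a (Za K) ⊓ im b (Za K)) = Nat.card ↥(Za K ⊓ im (a⁻¹ * b) (Za K)) := by
  have hk := mul_mem (inv_mem ha) hb
  obtain ⟨x, hx, hx'⟩ := SetLike.not_le_iff_exists.1 fun c => h0 _ hk hB (h.nox hk c)
  have h1 := le_antisymm (h.dec hk hx.1 hx.2 hx') (h.low hk)
  have e : ∀ X, im b X = im a (im (a⁻¹ * b) X) := fun X => by rw [← im_mul, mul_inv_cancel_left]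
  rw [e, e (Za K), ← im_sup, ← im_inf, card_im, card_im]
  exact ⟨h1, rfl⟩

theorem H.caseII (h0 : ∀ g ∈ Γ, ¬ PB g → im g (Za K) ≠ Za K) (hex : ∃ g ∈ Γ, ¬ PB g)
    (tor : ∀ l : K, l ≠ 0 → ∃ τ ∈ Γ, (∀ y, (τ y).1 = l ^ 2 * y.1) ∧
      ∀ w, τ (0, 0, w) = (0, 0, w)) : False := by
  obtain ⟨g, ⟨hg, hB⟩, hmax⟩ := (Set.toFinite {g | g ∈ Γ ∧ ¬ PB g}).exists_maximalFor
    (fun g => Nat.card ↥(Za K ⊓ im g (Za K))) _ hex
  have hmax' : ∀ k ∈ Γ, ¬ PB k → Nat.card ↥(Za K ⊓ im k (Za K)) ≤ Nat.card ↥(Za K ⊓ im g (Za K)) :=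
    fun k hk hk' => (le_total _ _).elim id (hmax ⟨hk, hk'⟩)
  have i1 : ∀ X : AddSubgroup (V K), im 1 X = X := fun X => AddSubgroup.map_id X
  have hY := (h.eq h0 (one_mem _) hg (by rwa [inv_one, one_mul])).1
  rw [i1, i1] at hY
  set Y := Zb K ⊔ im g (Zb K) with hYdef
  set D := Za K ⊓ im g (Za K) with hDdef
  have q0 : 0 < Nat.card K := Nat.card_pos
  have d0 : 0 < Nat.card D := Nat.card_pos
  have key : ∀ a ∈ Γ, ∀ b ∈ Γ, ¬ PB (a⁻¹ * b) → D ≤ im a (Za K) → D ≤ im b (Za K) →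
      Nat.card ↥(im a (Zb K) ⊔ im b (Zb K)) = Nat.card Y := fun a ha b hb hab h1 h2 => by
    obtain ⟨e1, e2⟩ := h.eq h0 ha hb hab
    rw [le_antisymm (e2.le.trans (hmax' _ (mul_mem (inv_mem ha) hb) hab))
      (AddSubgroup.card_le_of_le (le_inf h1 h2)), ← hY] at e1
    exact Nat.eq_of_mul_eq_mul_right d0 e1
  obtain ⟨τ, hτ, τ1, τ3, hτY⟩ : ∃ τ ∈ Γ, (∀ y ∈ Zb K, τ y ∈ Zb K) ∧
      (∀ w, τ (0, 0, w) = (0, 0, w)) ∧ ¬ im τ Y ≤ Y := by
    by_contra! hc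
    obtain ⟨y, hy, hy'⟩ : ∃ y ∈ Y, y ∉ Zb K := SetLike.not_le_iff_exists.1 fun c => by
      have e : Y = Zb K := le_antisymm c le_sup_left
      rw [e, card_b, mul_comm] at hY
      have e2 : D = Za K := AddSubgroup.eq_of_le_of_card_ge inf_le_left
        (card_a (K := K) ▸ (Nat.eq_of_mul_eq_mul_right (by positivity) hY).ge)
      exact h0 g hg hB (AddSubgroup.eq_of_le_of_card_ge (e2.ge.trans inf_le_right)
        (card_im g _).le).symm
    have sq : ∀ l : K, ∃ z ∈ Y, z.1 = l ^ 2 * y.1 := fun l => by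
      by_cases l0 : l = 0
      · exact ⟨0, zero_mem _, by simp [l0]⟩
      obtain ⟨τ, hτ, τ1, τ3⟩ := tor l l0
      exact ⟨τ y, hc τ hτ (fun z hz => by rw [mem_b, τ1, show z.1 = 0 from hz, mul_zero]) τ3
        (app_mem hy), τ1 y⟩
    have e : Y = ⊤ := eq_top_iff.2 fun x _ => by
      obtain ⟨z1, a1, b1⟩ := sq ((x.1 / y.1 + 1) / 2)
      obtain ⟨z2, a2, b2⟩ := sq ((x.1 / y.1 - 1) / 2)
      have h1 : x - (z1 - z2) ∈ Zb K := by
        have h2 := h.two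
        have h3 : y.1 ≠ 0 := hy'
        rw [mem_b, Prod.fst_sub, Prod.fst_sub, b1, b2]
        field_simp
        ring
      simpa using add_mem (le_sup_left (a := Zb K) (b := im g (Zb K)) h1) (sub_mem a1 a2)
    rw [e, AddSubgroup.card_top, card_V] at hY
    have e2 : D = ⊥ := AddSubgroup.card_eq_one.1
      (Nat.eq_of_mul_eq_mul_left (by positivity) (hY.trans (mul_one _).symm))
    have := h.c_mem hg
    rw [← hDdef, e2, AddSubgroup.mem_bot] at this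
    exact h.hc (congrArg (fun z : V K => z.2.2) this)
  choose n hn hN using h.ex
  have nΓ : ∀ t, n t * g ∈ Γ := fun t => mul_mem (h.syl.le (hn t)) hg
  have D1 : ∀ t, D ≤ im (n t * g) (Za K) := fun t d hd => by
    rw [im_mul, ← fix_a (hN t) hd.1]
    exact app_mem hd.2
  have D2 : D ≤ im (τ * g) (Za K) := fun d hd => by
    rw [im_mul, eq_a hd.1, ← τ3, ← eq_a hd.1]
    exact app_mem hd.2
  have Y1 : ∀ t, im (n t * g) (Zb K) ≤ Y := fun t => by
    rw [im_mul, im_le]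
    intro x hx
    simpa using add_mem (le_sup_left (a := Zb K) (b := im g (Zb K)) (sub_b (hN t) x))
      (le_sup_right (a := Zb K) hx)
  have Y2 : ¬ im (τ * g) (Zb K) ≤ Y := fun c => hτY (by
    rw [hYdef, im_sup, ← im_mul]
    exact sup_le ((im_le.2 τ1).trans le_sup_left) c)
  have hc := chars (im (τ * g) (Zb K)) Y (fun t => im (n t * g) (Zb K) ⊔ im (τ * g) (Zb K))
    (fun t => im (n t * g) (Zb K)) (fun _ => le_sup_right) (fun _ => le_sup_left)
    (fun t c => Y2 (le_sup_right.trans (AddSubgroup.eq_of_le_of_card_ge c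
      (key _ (nΓ t) _ (mul_mem hτ hg) (fun c' => Y2 (by
        rw [← mul_inv_cancel_left (n t * g) (τ * g), im_mul, c'.2]; exact Y1 t))
        (D1 t) D2).le).ge))
    fun t s hts => (AddSubgroup.eq_of_le_of_card_ge (sup_le (Y1 t) (Y1 s))
      (key _ (nΓ t) _ (nΓ s) (fun c' => by
        obtain ⟨r, hr⟩ := h.mem _ (mul_mem (inv_mem (hn t)) (hn s))
        refine hB (h.sr hg (mul_mem (inv_mem (hn t)) (hn s)) hr (h.toLin0.mem _ (one_mem _) |>.elim
          fun _ _ => ?_) (by simpa [mul_assoc] using c'))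
        rintro rfl
        have e := inv_mul_eq_one.1 (isN_eq hr h.zero)
        have e1 := hN t 1 0 0
        rw [e, hN s] at e1
        exact hts (by simpa using (congrArg (fun z : V K => z.2.1) e1).symm))
        (D1 t) (D1 s)).ge).ge
  have := (im (τ * g) (Zb K)).card_mul_index
  rw [card_im, card_b, card_V, mul_comm] at this
  exact hc.ne' (Nat.eq_of_mul_eq_mul_right (by positivity) this)

end LO

open LO in
theorem lin_odd {p : ℕ} [Fact p.Prime] {K : Type*} [Field K] [Finite K] [CharP K p] (hp : p ≠ 2)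
    {N Γ : Subgroup (Au (V K))} (h : Lin p fA N Γ) {c : K} (hc : c ≠ 0)
    (hx : ∀ γ ∈ Γ, (γ (0, 0, c)).1 = 0 ∧ (γ (0, 0, c)).2.1 = 0)
    (tor : ∀ l : K, l ≠ 0 → ∃ τ ∈ Γ, (∀ y, (τ y).1 = l ^ 2 * y.1) ∧
      (∀ v w, (τ (0, v, w)).2.1 = l * v) ∧ ∀ w, τ (0, 0, w) = (0, 0, w)) : False := by
  have H : LO.H p N Γ c := ⟨LU.lin0 h, fun e => hp ((Nat.prime_dvd_prime_iff_eq Fact.out
    Nat.prime_two).1 ((CharP.cast_eq_zero_iff K p 2).1 (by exact_mod_cast e))), hc, hx⟩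
  by_cases h0 : ∀ g ∈ Γ, ¬ PB g → im g (Za K) ≠ Za K
  · refine H.caseII h0 ?_ fun l hl => ?_
    · by_contra! hB
      exact h.nn fun g hg => Subgroup.mem_normalizer_fintype fun n hn => H.conj_mem hg (hB g hg) hn
    · obtain ⟨τ, hτ, h1, -, h3⟩ := tor l hl
      exact ⟨τ, hτ, h1, h3⟩
  · push Not at h0
    obtain ⟨g, hg, hB, hZ⟩ := h0
    obtain ⟨τ, hτ, h1, h2, h3⟩ := tor (-1) (neg_ne_zero.2 one_ne_zero)
    exact H.caseI hp hg hB hZ hτ (fun y => by rw [h1]; ring) (fun v w => by rw [h2]; ring) h3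

end Cfsg.Agent.SPQ
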