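import Cfsg.Agent.SPQ.Fus
import Cfsg.Agent.SPQ.LinOdd

/-! Project SPQ: odd characteristic. -/

set_option autoImplicit false

namespace Cfsg.Agent.SPQ

open Subgroup Cfsg.Agent.SR3
open scoped commutatorElement

universe u

namespace Od

variable {G : Type u} [Group G] {K : Type*} [Field K] {φ : M K →* G} {g g' : G}
  {a a' b b' c m : M K} {U W X Y : Subgroup (M K)} {l μ ν : K}

/-- `g` conjugates `φ a` to `φ b`. -/
def Cj (φ : M K →* G) (g : G) (a b : M K) : Prop := g * φ a * g⁻¹ = φ b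

theorem Cj.ex (hg : g ∈ nm (X.map φ)) (ha : a ∈ X) : ∃ b ∈ X, Cj φ g a b :=
  (conj_mem hg (mem_map_of_mem φ ha)).imp fun _ h => ⟨h.1, h.2.symm⟩

theorem Cj.mul (h : Cj φ g a a') (h' : Cj φ g b b') : Cj φ g (a * b) (a' * b') := by
  unfold Cj at *; rw [map_mul, map_mul, ← h, ← h']; group

theorem Cj.comm (h : Cj φ g a a') (h' : Cj φ g b b') : Cj φ g ⁅a, b⁆ ⁅a', b'⁆ := by
  unfold Cj at *; rw [map_commutatorElement, map_commutatorElement, conj_comm, h, h']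

theorem Cj.comp (h : Cj φ g a b) (h' : Cj φ g' b c) : Cj φ (g' * g) a c := by
  unfold Cj at *; rw [← h', ← h]; group

theorem Cj.inv (h : Cj φ g a b) : Cj φ g⁻¹ b a := by
  unfold Cj at *; rw [← h]; group

theorem Cj.inn (φ : M K →* G) (s a : M K) : Cj φ (φ s) a (s * a * s⁻¹) := by
  simp [Cj]

theorem Cj.cen (hg : g ∈ ce ((Z K).map φ)) (ha : a ∈ Z K) : Cj φ g a a :=
  mul_inv_eq_iff_eq_mul.2 (hg _ (mem_map_of_mem φ ha)).symm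

theorem Cj.uniq (hφ : Function.Injective φ) (h : Cj φ g a b) (h' : Cj φ g a b') : b = b' :=
  hφ (h.symm.trans h')

theorem St_map (hφ : Function.Injective φ) (hm : φ m ∈ nm (Y.map φ)) :
    φ m ∈ St (X.map φ) (Y.map φ) ↔ ∀ x ∈ X, ⁅m, x⁆ ∈ Y := by
  refine ⟨fun h x hx => (mem_map_iff_mem hφ).1 ?_, fun h => ⟨hm, ?_⟩⟩
  · rw [map_commutatorElement]; exact h.2 _ (mem_map_of_mem φ hx)
  · rintro _ ⟨x, hx, rfl⟩
    exact ⟨_, h x hx, map_commutatorElement ..⟩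

theorem ce_map (h : ∀ x ∈ X, ⁅m, x⁆ = 1) : φ m ∈ ce (X.map φ) := by
  rintro _ ⟨x, hx, rfl⟩
  rw [← map_mul, ← map_mul, commutatorElement_eq_one_iff_mul_comm.1 (h x hx)]

theorem ceZ (φ : M K →* G) : φ.range ≤ ce ((Z K).map φ) := by
  rintro _ ⟨m, rfl⟩
  exact ce_map fun x ⟨h1, h2, h3⟩ => by ext <;> simp [h1, h2, h3]

theorem Z_le : Z K ≤ Z2 K := fun _ h => ⟨h.1, h.2.1⟩

variable [Finite G]

theorem nm_of (hφ : Function.Injective φ) (h1 : g ∈ nm (W.map φ)) (h2 : g ∈ nm (X.map φ))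
    (h3 : g ∈ nm (Y.map φ)) (h : ∀ m, m ∈ U ↔ m ∈ W ∧ ∀ x ∈ X, ⁅m, x⁆ ∈ Y) :
    g ∈ nm (U.map φ) := by
  refine mem_nm_of_conj ?_
  rintro _ ⟨a, ha, rfl⟩
  obtain ⟨b, hb, e⟩ := Cj.ex h1 ((h a).1 ha).1
  refine ⟨b, (h b).2 ⟨hb, fun x hx => ?_⟩, e.symm⟩
  obtain ⟨y, hy, e'⟩ := Cj.ex (inv_mem h2) hx
  obtain ⟨z, hz, e''⟩ := Cj.ex h3 (((h a).1 ha).2 y hy)
  have := e.comm (inv_inv g ▸ e'.inv)
  rwa [this.uniq hφ e'']

theorem nZ (φ : M K →* G) : φ.range ≤ nm ((Z K).map φ) := (ceZ φ).trans (ce_le_nm le_rfl)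

omit [Finite G] in
theorem nb : g ∈ nm ((⊥ : Subgroup (M K)).map φ) := by rw [Subgroup.map_bot]; exact nm_bot

variable {p : ℕ} [hp : Fact p.Prime] (h2 : (2 : K) ≠ 0) (hφ : Function.Injective φ)
include h2 hφ

omit [Finite G] in
theorem form (hg : g ∈ ce ((Z K).map φ)) (h : Cj φ g a a') (h' : Cj φ g b b') (hb : b ∈ Z2 K)
    (hb' : b' ∈ Z2 K) : a'.t * b'.v = a.t * b.v := by
  have := congrArg M.w ((h.comm h').uniq hφ (.cen hg (by simp [hb.1, hb.2])))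
  simp only [M.comm_w, hb.1, hb.2, hb'.1, hb'.2] at this
  grind

theorem nmQZ : nm ((Q l).map φ) ≤ nm ((Z K).map φ) := fun _ hg => nm_of hφ hg hg nb fun m => by
  refine ⟨fun ⟨h1, h3, h4⟩ => ⟨by simp [h1, h3], fun x _ => mem_bot.2 (by ext <;> simp [h1, h3, h4])⟩,
    fun ⟨h1, h⟩ => ?_⟩
  have a : m.t = 0 := by simpa [h2] using congrArg M.w (mem_bot.1 (h ⟨0, 0, 1, 0⟩ (by simp)))
  have b : m.u = 0 := by simpa [a] using h1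
  exact ⟨a, b, by simpa [a, b, h2] using congrArg M.w (mem_bot.1 (h ⟨1, l, 0, 0⟩ (by simp)))⟩

theorem nmSZ (hg : g ∈ nm φ.range) : g ∈ nm ((Z2 K).map φ) := by
  rw [φ.range_eq_map] at hg
  refine nm_of hφ hg hg (nm_of (U := Z K) hφ hg hg nb fun m => ⟨fun ⟨h1, h3, h4⟩ =>
    ⟨trivial, fun x _ => mem_bot.2 (by ext <;> simp [h1, h3, h4])⟩, fun ⟨_, h⟩ => ?_⟩)
    fun m => ⟨fun ⟨h1, h3⟩ => ⟨trivial, fun x _ => by simp [h1, h3]⟩, fun ⟨_, h⟩ => ?_⟩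
  · have a := congrArg M.w (mem_bot.1 (h ⟨0, 0, 1, 0⟩ trivial))
    have b := mem_bot.1 (h ⟨1, 0, 0, 0⟩ trivial)
    have c := congrArg M.v b
    replace b := congrArg M.w b
    simp only [M.comm_w, M.comm_v, M.one_w, M.one_v, mem_Z] at *
    grind
  · exact ⟨by simpa using h ⟨0, 1, 0, 0⟩ trivial, by simpa using h ⟨1, 0, 0, 0⟩ trivial⟩

theorem moves (hg : g ∈ nm ((Q l).map φ)) (hc : g ∈ ce ((Z K).map φ))
    (hn : g ∉ nm ((Z2 K).map φ)) (h : Cj φ g a a') (ha : a ∈ Z2 K) (hv : a.v ≠ 0) :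
    a'.t ≠ 0 := fun e => hn (mem_nm_of_conj (by
  rintro _ ⟨z, hz, rfl⟩
  have q : ∀ {z : M K}, z ∈ Z2 K → z ∈ Q l := fun hz => by simp [hz.1, hz.2]
  obtain ⟨z', hz', e1⟩ := Cj.ex hg (q hz)
  obtain ⟨b, hb, e2⟩ := Cj.ex hg (q ha)
  obtain rfl := h.uniq hφ e2
  obtain ⟨y, -, e3⟩ := Cj.ex (a := ⟨1, l, 0, 0⟩) hg (by simp)
  have r : a' ∈ Z2 K := ⟨e, by simpa [e] using hb⟩
  have := form h2 hφ hc e3 h ha r
  have := form h2 hφ hc e1 h ha r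
  refine ⟨z', ?_, e1.symm⟩
  simp only [mem_Q, mem_Z2, SetLike.mem_coe] at *
  grind))

theorem move (h : Es p φ.range ((Q l).map φ)) : ∃ g ∈ nm ((Q l).map φ),
    g ∈ ce ((Z K).map φ) ∧ g ∉ nm ((Z2 K).map φ) := by
  by_contra! H
  have hn := nm_map (X := Q l) (by simp) φ
  have hl := h.loc
  rw [inf_eq_left.2 hn] at hl
  have lZ : (Z K).map φ ≤ (Q l).map φ := map_mono fun z hz => by simp [hz.1, hz.2.1]
  have n2 : nm ((Q l).map φ) ≤ nm ((Z2 K).map φ) := fun g hg => by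
    obtain ⟨k, hk, e⟩ := hl.frat (nm ((Q l).map φ) ⊓ ce ((Z K).map φ)) (le_inf hn (ceZ φ))
      (le_inf (ce_le_nm le_rfl) (centralizer_le lZ)) inf_le_left g hg
      (nm_inf (le_normalizer hg) (nm_ce (nmQZ h2 hφ hg)))
    exact (mul_mem_cancel_right (H k hk.1 hk.2)).1 (nmSZ h2 hφ e)
  refine h.ne ?_
  rintro _ ⟨m, rfl⟩
  exact h.rad3 (map_mono fun z hz => by simp [hz.1, hz.2]) (map_mono Z_le) n2
    (nmQZ h2 hφ) ⟨m, rfl⟩ ((St_map hφ (nm_map (by simp) φ ⟨m, rfl⟩)).2 (by simp))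
    ((St_map hφ (nZ φ ⟨m, rfl⟩)).2 fun x hx => by simp [hx.1, hx.2]) (ceZ φ ⟨m, rfl⟩)

theorem orb (h : Es p φ.range ((Q l).map φ)) (hμ : μ ≠ 0) : ∃ g ∈ nm ((Q l).map φ),
    g ∈ ce ((Z K).map φ) ∧ ∃ y ∈ Q l, y.t = 1 ∧ Cj φ g ⟨0, 0, μ, 0⟩ y := by
  obtain ⟨g, hg, hc, hn⟩ := move h2 hφ h
  obtain ⟨x, -, e⟩ := Cj.ex (a := ⟨0, 0, μ, 0⟩) (inv_mem hg) (by simp)
  obtain ⟨x₁, -, e₁⟩ := Cj.ex (a := ⟨0, 0, 1, 0⟩) (inv_mem hg) (by simp)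
  have hn' := mt (inv_mem_iff (x := g)).1 hn
  have t := moves h2 hφ (inv_mem hg) (inv_mem hc) hn' e (by simp) hμ
  have t₁ := moves h2 hφ (inv_mem hg) (inv_mem hc) hn' e₁ (by simp) one_ne_zero
  set s : M K := ⟨0, (x₁.t * x.t)⁻¹, 0, 0⟩ with hs
  obtain ⟨y, hy, e₂⟩ := Cj.ex (a := ⁅s, x⁆) hg (by simp)
  have hS := nm_map (X := Q l) (by simp) φ ⟨s, rfl⟩
  have f := congrArg M.w ((e₂.comm (inv_inv g ▸ e₁.inv)).uniq hφ (.cen hc (by simp)))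
  refine ⟨g * (φ s * g⁻¹), mul_mem hg (mul_mem hS (inv_mem hg)),
    mul_mem hc (mul_mem (ceZ φ ⟨s, rfl⟩) (inv_mem hc)), y * ⟨0, 0, μ, 0⟩, mul_mem hy (by simp), ?_,
    (e.comp (Cj.inn φ s x)).comp (conj_eq_comm s x ▸ e₂.mul (inv_inv g ▸ e.inv))⟩
  simp only [M.comm_w, M.comm_t, M.comm_u, M.comm_v, hs, M.mul_t] at f ⊢
  grind

theorem torus (h : Es p φ.range ((Q l).map φ)) (hμ : μ ≠ 0) : ∃ g ∈ nm φ.range,
    g ∈ ce ((Z K).map φ) ∧ ∀ m, ∃ m', Cj φ g m m' ∧ m'.t * μ = m.t ∧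
      m'.u - l * m'.t = μ ^ 2 * (m.u - l * m.t) ∧ (m ∈ Z2 K → m'.v = μ * m.v) := by
  obtain ⟨g₁, n₁, c₁, y₁, q₁, t₁, e₁⟩ := orb h2 hφ h one_ne_zero
  obtain ⟨g₂, n₂, c₂, y₂, q₂, t₂, e₂⟩ := orb h2 hφ h hμ
  have hn := nm_map (X := Q l) (by simp) φ
  have hl := h.loc
  rw [inf_eq_left.2 hn] at hl
  have lZ : (Z K).map φ ≤ (Q l).map φ := map_mono fun z hz => by simp [hz.1, hz.2.1]
  have lZ2 : (Z2 K).map φ ≤ (Q l).map φ := map_mono fun z hz => by simp [hz.1, hz.2]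
  set s : M K := ⟨0, y₁.v - y₂.v, 0, 0⟩ with hs
  have z : y₂⁻¹ * (s * y₁ * s⁻¹) ∈ Z K := by
    simp only [mem_Q] at q₁ q₂
    simp [hs, t₁, t₂, q₁, q₂]; grind
  have e := (e₁.comp (Cj.inn φ s y₁)).comp
    (mul_inv_cancel_left y₂ (s * y₁ * s⁻¹) ▸ e₂.inv.mul (.cen (inv_mem c₂) z))
  have n₃ := mul_mem (inv_mem n₂) (mul_mem (hn ⟨s, rfl⟩) n₁)
  have c₃ := mul_mem (inv_mem c₂) (mul_mem (ceZ φ ⟨s, rfl⟩) c₁)
  have n2 : g₂⁻¹ * (φ s * g₁) ∈ nm ((Z2 K).map φ) := by_contra fun hn' =>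
    moves h2 hφ n₃ c₃ hn' e (by simp) one_ne_zero (by rw [M.mul_t, z.1, add_zero])
  obtain ⟨k, hk, n₄⟩ := hl.frat (nm ((Q l).map φ) ⊓ ce ((Z K).map φ) ⊓
      St ((Z2 K).map φ) ((Z K).map φ)) (le_inf (le_inf hn (ceZ φ)) (by
        rintro _ ⟨m, rfl⟩
        exact (St_map hφ (nZ φ ⟨m, rfl⟩)).2 fun x hx => by simp [hx.1, hx.2]))
    (le_inf (le_inf (ce_le_nm le_rfl) (centralizer_le lZ)) (ce_le_St lZ2 lZ))
    (inf_le_left.trans inf_le_left) _ n₃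
    (nm_inf (nm_inf (le_normalizer n₃) (nm_ce (nmQZ h2 hφ n₃))) (nm_St n2 (nmQZ h2 hφ n₃)))
  obtain ⟨z', hz', e'⟩ := hk.2.2 _ (mem_map_of_mem φ (show (⟨0, 0, 1, 0⟩ : M K) ∈ Z2 K by simp))
  have e₃ : Cj φ k ⟨0, 0, 1, 0⟩ (z' * ⟨0, 0, 1, 0⟩) := by rw [Cj, conj_eq_comm, map_mul, e']
  replace e₃ := e₃.comp ((Cj.cen c₃ hz').mul e)
  have c₄ := mul_mem c₃ hk.1.2
  obtain ⟨b, hb, e₄⟩ := Cj.ex (a := ⟨1, l, 0, 0⟩) (mul_mem n₃ hk.1.1) (by simp)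
  have r := mul_mem (Z_le hz') (mul_mem (show (⟨0, 0, μ, 0⟩ : M K) ∈ Z2 K by simp) (Z_le z))
  have f : ∀ {x x'}, Cj φ _ x x' → x'.t * μ = x.t := fun e => by
    simpa [hz'.1, hz'.2.2, z.2.2, z.2.1, -M.mul_u] using form h2 hφ c₄ e e₃ (by simp) r
  have f₁ := f e₄
  have key : ∀ {x x'}, x ∈ Z2 K → Cj φ _ x x' → x'.v = μ * x.v := fun hx e => by
    obtain ⟨y, hy, e'⟩ := Cj.ex (nmSZ h2 hφ n₄) hx
    obtain rfl := e.uniq hφ e'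
    linear_combination μ * form h2 hφ c₄ e₄ e hx hy - _ * f₁
  refine ⟨_, n₄, c₄, fun m => ?_⟩
  obtain ⟨m', -, e₅⟩ := Cj.ex (φ.range_eq_map ▸ n₄) (mem_top m)
  refine ⟨m', e₅, f e₅, ?_, fun hm => key hm e₅⟩
  have := key (by simp) (e₄.comm e₅)
  simp only [M.comm_v, mem_Q.1 hb] at this
  linear_combination μ * this - (m'.u - l * m'.t) * f₁

theorem two {l' : K} [CharP K p] (hl : Loc p φ.range φ.range) (h : Es p φ.range ((Q l).map φ))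
    (h' : Es p φ.range ((Q l').map φ)) : l = l' := by
  obtain ⟨g, n, -, e⟩ := torus h2 hφ h (neg_ne_zero.2 one_ne_zero)
  obtain ⟨g', n', -, e'⟩ := torus h2 hφ h' (neg_ne_zero.2 one_ne_zero)
  obtain ⟨k, hk, hm⟩ := hl.cop (mul_mem n n')
  have key : ∀ k : ℕ, ∃ m, Cj φ ((g * g') ^ k) ⟨1, 0, 0, 0⟩ m ∧ m.t = 1 ∧ m.u = k * (2 * (l - l')) :=
    fun k => by
      induction k with
      | zero => exact ⟨⟨1, 0, 0, 0⟩, by simp [Cj], rfl, by simp⟩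
      | succ k ih =>
        obtain ⟨m, a, a1, a2⟩ := ih
        obtain ⟨m₁, b, b1, b2, -⟩ := e' m
        obtain ⟨m₂, c, c1, c2, -⟩ := e m₁
        exact ⟨m₂, pow_succ' (g * g') k ▸ mul_assoc g g' _ ▸ (a.comp b).comp c, by grind, by grind⟩
  obtain ⟨m, a, -, a2⟩ := key k
  obtain ⟨_, ⟨s, rfl⟩, c, hc, e⟩ := (mem_sup_of_nm fun x hx => nm_ce (le_normalizer hx)).1 hm
  have : Cj φ c ⟨1, 0, 0, 0⟩ ⟨1, 0, 0, 0⟩ := mul_inv_eq_iff_eq_mul.2 (hc _ ⟨_, rfl⟩).symm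
  have := congrArg M.u ((e ▸ a).uniq hφ (this.comp (.inn φ s _)))
  have k0 : (k : K) ≠ 0 := fun z => hp.out.coprime_iff_not_dvd.1 hk.symm
    ((CharP.cast_eq_zero_iff K p k).1 z)
  simpa [a2, k0, h2, sub_eq_zero] using this

theorem ess {E W : Subgroup G} (h : Es p φ.range E) (hW : W ≤ E) (h0 : W ≠ ⊥) (n : nm E ≤ nm W)
    (n' : φ.range ≤ nm W) : E = (A K).map φ ∨ ∃ l : K, E = (Q l).map φ := by
  obtain ⟨E, rfl⟩ : ∃ X : Subgroup (M K), X.map φ = E := ⟨_, map_comap_eq_self h.le⟩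
  obtain ⟨W, rfl⟩ : ∃ X : Subgroup (M K), X.map φ = W := ⟨_, map_comap_eq_self (hW.trans h.le)⟩
  rw [map_le_map_iff_of_injective hφ] at hW
  have mem : ∀ {X : Subgroup (M K)} {m}, φ m ∈ X.map φ ↔ m ∈ X := mem_map_iff_mem hφ
  have cen : ∀ m, (∀ x ∈ E, ⁅m, x⁆ = 1) → m ∈ E := fun m hm => mem.1 (h.cen ⟨⟨m, rfl⟩, ce_map hm⟩)
  have lZ : Z K ≤ E := fun z hz => cen z fun x _ => by ext <;> simp [hz.1, hz.2.1, hz.2.2]
  have r2 : nm (E.map φ) ≤ nm ((Z K).map φ) → ∀ m, (∀ x ∈ E, ⁅m, x⁆ ∈ Z K) → m ∈ E :=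
    fun nz m hm => mem.1 (h.rad2 (map_mono lZ) nz ⟨m, rfl⟩ ((St_map hφ (nZ φ ⟨m, rfl⟩)).2 hm)
      (ceZ φ ⟨m, rfl⟩))
  by_cases hA : E ≤ A K
  · exact .inl (congrArg _ (hA.antisymm fun a ha => cen a fun x hx => by
      ext <;> simp [mem_A.1 ha, mem_A.1 (hA hx)]))
  obtain ⟨s, hs, t⟩ := SetLike.not_le_iff_exists.1 hA
  have cz : ∀ {s x : M K}, s.t ≠ 0 → ⁅x, s⁆ = 1 → x.t = 0 → x ∈ Z K := fun t e a => by
    have b := congrArg M.v e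
    have c := congrArg M.w e
    simp [a, t] at b
    simp [a, b, t, h2] at c
    exact ⟨a, b, c⟩
  by_cases nz : nm (E.map φ) ≤ nm ((Z K).map φ)
  · have l2 : Z2 K ≤ E := fun z hz => r2 nz z fun x _ => by simp [hz.1, hz.2]
    by_cases hx : ∀ m ∈ E, (∀ x ∈ E, ⁅m, x⁆ ∈ Z K) → m ∈ Z2 K
    · refine (h.ne ?_).elim
      rintro _ ⟨m, rfl⟩
      exact h.rad3 (map_mono l2) (map_mono Z_le) (fun g hg => nm_of hφ hg hg (nz hg) fun m =>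
        ⟨fun hm => ⟨l2 hm, fun x _ => by simp [hm.1, hm.2]⟩, fun hm => hx m hm.1 hm.2⟩) nz ⟨m, rfl⟩
        ((St_map hφ (nm_map (by simp) φ ⟨m, rfl⟩)).2 (by simp))
        ((St_map hφ (nZ φ ⟨m, rfl⟩)).2 fun x hx => by simp [hx.1, hx.2]) (ceZ φ ⟨m, rfl⟩)
    push Not at hx
    obtain ⟨x, hx, c, h1⟩ := hx
    have c' : ∀ y ∈ E, x.t * y.u = y.t * x.u := fun y hy => by simpa [sub_eq_zero] using c y hy
    have t' : x.t ≠ 0 := fun a => h1 ⟨a, by simpa [a, mem_A.not.1 t] using c' s hs⟩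
    have le : E ≤ Q (x.u / x.t) := fun y hy => by have := c' y hy; simp only [mem_Q]; grind
    exact .inr ⟨_, congrArg _ (le.antisymm fun y hy => r2 nz y fun z hz => by
      simp [mem_Q.1 hy, mem_Q.1 (le hz)]; ring)⟩
  exfalso
  obtain ⟨g, hg, hn⟩ := SetLike.not_le_iff_exists.1 nz
  obtain ⟨_, ⟨z, hz, rfl⟩, hn⟩ := not_forall₂.1 (mt mem_nm_of_conj hn)
  obtain ⟨x, hx, e⟩ := Cj.ex hg (lZ hz)
  have c3 : ∀ a, g⁻¹ * a * g ∈ φ.range → φ x * a = a * φ x := fun a ha => by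
    have := ceZ φ ha _ (mem_map_of_mem φ hz)
    rw [← e]
    calc _ = g * (φ z * (g⁻¹ * a * g)) * g⁻¹ := by group
      _ = _ := by rw [this]; group
  have c : ∀ y ∈ E, ⁅y, x⁆ = 1 := fun y hy => commutatorElement_eq_one_iff_mul_comm.2 (hφ (by
    rw [map_mul, map_mul, c3 _ (h.le (mem_cj.1 ((cj_eq hg).ge (mem.2 hy))))]))
  have t' : x.t ≠ 0 := fun a => hn (e ▸ mem.2 (cz t (by rw [← commutatorElement_inv, c s hs, inv_one]) a))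
  have lW : W ≤ Z K := fun y hy => cz t' (c y (hW hy)) (by
    have := comm_mem_of_nm (n' ⟨⟨0, 1, 0, 0⟩, rfl⟩) (mem.2 hy)
    rw [← map_commutatorElement, mem] at this
    simpa using cz t' (c _ (hW this)) (by simp))
  obtain ⟨⟨_, y, hy, rfl⟩, y0⟩ := ne_bot_iff_exists_ne_one.1 h0
  have h1 : φ.range ⊓ nm (E.map φ) ≤ ce (W.map φ) :=
    inf_le_left.trans ((ceZ φ).trans (centralizer_le (map_mono lW)))
  have e' : ⁅φ ⟨0, 0, -y.w / (2 * x.t), 0⟩, φ x⁆ = φ y := by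
    rw [← map_commutatorElement]
    congr 1
    obtain ⟨a, b, c⟩ := lW hy
    ext <;> simp [a, b, c]
    field_simp
  exact y0 (Subtype.ext (e'.symm.trans (fix h.loc hg (map_mono hW) h1
    ((cj_mono g h1).trans (cj_eq (nm_ce (n hg))).le) (mem.2 hx)
    (fun a ha b hb => hb ▸ c3 a (mem_cj.1 ha).1) ⟨⟨_, rfl⟩, St_le_nm (map_mono lZ) le_rfl
      ((St_map hφ (nZ φ ⟨_, rfl⟩)).2 (by simp))⟩ (e' ▸ mem.2 hy))))

theorem AQ [Finite K] [CharP K p] (ho : p ≠ 2) {W : Subgroup G} (h : Es p φ.range ((A K).map φ))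
    (h' : Es p φ.range ((Q l).map φ)) (h0 : W ≠ ⊥) (lA : W ≤ (A K).map φ) (lQ : W ≤ (Q l).map φ)
    (nA : nm ((A K).map φ) ≤ nm W) (nQ : nm ((Q l).map φ) ≤ nm W) : False := by
  obtain ⟨W, rfl⟩ : ∃ X : Subgroup (M K), X.map φ = W := ⟨_, map_comap_eq_self (lA.trans h.le)⟩
  rw [map_le_map_iff_of_injective hφ] at lA lQ
  have l2 : W ≤ Z2 K := fun y hy => ⟨lA hy, by simpa [mem_A.1 (lA hy)] using lQ hy⟩
  have lZ : W ≤ Z K := fun y hy => ⟨lA hy, (l2 hy).2, by_contra fun v => by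
    obtain ⟨g, a, b, c⟩ := move h2 hφ h'
    obtain ⟨y', hy', e⟩ := Cj.ex (nQ a) hy
    exact moves h2 hφ a b c e (l2 hy) v (lA hy')⟩
  obtain ⟨⟨_, y, hy, rfl⟩, y0⟩ := ne_bot_iff_exists_ne_one.1 h0
  have ey : pA φ (0, 0, y.w) = φ y := congrArg φ (by
    obtain ⟨a, b, c⟩ := lZ hy
    ext <;> simp [a, b, c])
  refine lin_odd ho (linA hφ h) (c := y.w) (fun z => y0 (Subtype.ext (ey.symm.trans ?_))) ?_
    fun μ hμ => ?_
  · rw [z]; exact φ.map_one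
  · rintro γ ⟨g, -, e⟩
    have := conj_mem (g := g) (nA (mem_nm_of_conj fun x hx => by
      obtain ⟨y, rfl⟩ := (pA_mem φ x).1 hx
      exact (pA_mem φ _).2 ⟨_, (e y).symm⟩)) (mem_map_of_mem φ hy)
    rw [← ey, e, pA, mem_map_iff_mem hφ] at this
    exact (lZ this).2
  obtain ⟨g, -, c, e⟩ := torus h2 hφ h' hμ
  obtain ⟨γ, e'⟩ := gamA (g := g) hφ (mem_nm_of_conj (by
    rintro _ ⟨m, hm, rfl⟩
    obtain ⟨m', a, b, -⟩ := e m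
    exact ⟨m', by simpa [mem_A.1 hm, hμ] using b, a.symm⟩))
  refine ⟨γ, ⟨g, trivial, e'⟩, fun y => ?_, fun v w => ?_, fun w => pA_inj hφ ((e' _).symm.trans
    (Cj.cen c (by simp)))⟩
  · obtain ⟨m', a, -, b, -⟩ := e ⟨0, y.1, y.2.1, y.2.2⟩
    simpa [a.uniq hφ (e' y)] using b
  · obtain ⟨m', a, -, -, b⟩ := e ⟨0, 0, v, w⟩
    simpa [a.uniq hφ (e' (0, v, w))] using b

end Od

variable {G : Type u} [Group G] [Finite G] {p : ℕ} [hp : Fact p.Prime] {K : Type*} [Field K]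
  [Finite K] [CharP K p] {φ : M K →* G}

theorem odd_constr (ho : p ≠ 2) (hφ : Function.Injective φ)
    (hF : (groupFusionSystem φ.range).IsSaturated p) (hO : (groupFusionSystem φ.range).core ≠ ⊥) :
    (groupFusionSystem φ.range).IsConstrained p := by
  have hS : IsPGroup p φ.range := pg_range φ
  have h2 : (2 : K) ≠ 0 := fun e => ho ((Nat.prime_dvd_prime_iff_eq hp.out Nat.prime_two).1
    ((CharP.cast_eq_zero_iff K p 2).1 (by exact_mod_cast e)))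
  have I := inv_core hS hF
  have n := le_normalizer.trans I.norm
  refine constr hS hF fun E E' hE hE' => ?_
  have e := es_of hS hF hE
  have e' := es_of hS hF hE'
  obtain rfl | ⟨l, rfl⟩ := Od.ess h2 hφ e (I.leE E hE) hO (I.normE E hE) n <;>
    obtain rfl | ⟨l', rfl⟩ := Od.ess h2 hφ e' (I.leE E' hE') hO (I.normE E' hE') n
  · rfl
  · exact (Od.AQ h2 hφ ho e e' hO (I.leE _ hE) (I.leE _ hE') (I.normE _ hE) (I.normE _ hE')).elim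
  · exact (Od.AQ h2 hφ ho e' e hO (I.leE _ hE') (I.leE _ hE) (I.normE _ hE') (I.normE _ hE)).elim
  · rw [Od.two h2 hφ (Rows.loc_top hS hF) e e']

end Cfsg.Agent.SPQ
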