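import Cfsg.Agent.SPQ.Defs
import Cfsg.Agent.SP4.Mod

/-! Project SPQ: the groups `A₆ × 2`, `2².L₃(4)` and `2².L₃(4).3`. -/

set_option autoImplicit false

namespace Cfsg.Agent.SPQ

open Subgroup Cfsg.Agent.SR3

universe v

section
variable {K : Type*} [Field K] {G G' : Type*} [Group G] [Group G']

/-- The two models agree. -/
def toU (K : Type*) [Field K] : M K ≃* SP4.U K where
  toFun a := ⟨a.t, a.u, a.v, a.w⟩
  invFun a := ⟨a.t, a.x, a.y, a.z⟩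
  left_inv _ := rfl
  right_inv _ := rfl
  map_mul' _ _ := rfl

theorem Rl.map {φ : M K →* G} (h : Rl φ) (e : G ≃* G') : Rl (e.toMonoidHom.comp φ) ∧
    (nm (e.toMonoidHom.comp φ).range ≤ ce ((Z K).map (e.toMonoidHom.comp φ)) ↔
      nm φ.range ≤ ce ((Z K).map φ)) := by
  have k : ∀ (X : Subgroup G) (g : G), e g ∈ nm (X.map e.toMonoidHom) ↔ g ∈ nm X := fun X g => by
    simp only [mem_normalizer_iff]
    refine ⟨fun h x => ?_, fun h x => ?_⟩
    · have := h (e x)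
      rwa [← map_inv, ← map_mul, ← map_mul, show e x = e.toMonoidHom x from rfl,
        show e (g * x * g⁻¹) = e.toMonoidHom (g * x * g⁻¹) from rfl,
        mem_map_iff_mem e.injective, mem_map_iff_mem e.injective] at this
    · obtain ⟨x, rfl⟩ := e.surjective x
      rw [← map_inv, ← map_mul, ← map_mul, show e x = e.toMonoidHom x from rfl,
        show e (g * x * g⁻¹) = e.toMonoidHom (g * x * g⁻¹) from rfl,
        mem_map_iff_mem e.injective, mem_map_iff_mem e.injective]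
      exact h x
  have k' : ∀ g : G, e g ∈ ce ((Z K).map (e.toMonoidHom.comp φ)) ↔ g ∈ ce ((Z K).map φ) :=
    fun g => ⟨by
      rintro h _ ⟨a, ha, rfl⟩
      exact e.injective (by rw [map_mul, map_mul]; exact h _ ⟨a, ha, rfl⟩), by
      rintro h _ ⟨a, ha, rfl⟩
      exact (map_mul e _ _).symm.trans ((congrArg e (h _ ⟨a, ha, rfl⟩)).trans (map_mul e _ _))⟩
  refine ⟨⟨e.injective.comp h.inj, ?_, fun g => ?_, ?_⟩, ?_⟩
  · rw [MonoidHom.range_comp, index_map_of_bijective e.bijective]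
    exact h.syl
  · obtain ⟨g, rfl⟩ := e.surjective g
    rw [← map_map]
    exact (k _ g).2 (h.nZ g)
  · obtain ⟨g, a, b, h1, h2, h3, h4, h5⟩ := h.fus
    exact ⟨e g, a, b, h1, h2, h3, h4, by
      rw [← map_inv]; exact (by rw [map_mul, map_mul]; rfl : _ = e _).trans (congrArg e h5)⟩
  · rw [MonoidHom.range_comp]
    refine ⟨fun c g hg => (k' g).1 (c ((k _ g).2 hg)), fun c g hg => ?_⟩
    obtain ⟨g, rfl⟩ := e.surjective g
    exact (k' g).2 (c ((k _ g).1 hg))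

theorem exists_out [Finite G] {Y : Subgroup G} {g g' : G} (h : g ∉ nm Y) (h' : g' ∉ nm Y) :
    ∃ y ∈ Y, g * y * g⁻¹ ∉ Y ∧ g' * y * g'⁻¹ ∉ Y := by
  have k : ∀ g, g ∉ nm Y → ∃ y ∈ Y, g * y * g⁻¹ ∉ Y := fun g hg => by
    by_contra c
    exact hg (mem_normalizer_fintype fun y hy => by_contra fun n => c ⟨y, hy, n⟩)
  obtain ⟨y, hy, n⟩ := k g h
  obtain ⟨y', hy', n'⟩ := k g' h'
  by_cases c : g' * y * g'⁻¹ ∈ Y
  · by_cases c' : g * y' * g⁻¹ ∈ Y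
    · refine ⟨y * y', mul_mem hy hy', fun d => n ?_, fun d => n' ?_⟩
      · rwa [← conj_mul, mul_mem_cancel_right c'] at d
      · rwa [← conj_mul, mul_mem_cancel_left c] at d
    · exact ⟨y', hy', c', n'⟩
  · exact ⟨y, hy, n, c⟩

theorem rl_of_md [Finite G] {ψ : SP4.U K →* G} (h : SP4.Md ψ) :
    ∃ φ : M K →* G, Rl φ ∧ φ.range = ψ.range ∧ (Z K).map φ = (SP4.Zl K).map ψ := by
  have e1 : (ψ.comp (toU K).toMonoidHom).range = ψ.range := by
    rw [MonoidHom.range_comp, MonoidHom.range_eq_top.2 (toU K).surjective, MonoidHom.range_eq_map]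
  have e2 : (Z K).map (ψ.comp (toU K).toMonoidHom) = (SP4.Zl K).map ψ := by
    ext x
    exact ⟨fun ⟨a, ha, e⟩ => ⟨toU K a, ha, e⟩, fun ⟨a, ha, e⟩ => ⟨(toU K).symm a, ha, e⟩⟩
  refine ⟨ψ.comp (toU K).toMonoidHom, ⟨h.inj.comp (toU K).injective, ?_, fun g => ?_, ?_⟩, e1, e2⟩
  · obtain ⟨T, hT⟩ := h.syl
    rw [e1, ← hT]
    exact T.not_dvd_index
  · have := h.nz
    rw [e2, nm, normalizer_eq_top]; trivial
  · obtain ⟨g, h1, h2⟩ := SetLike.not_le_iff_exists.1 h.m1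
    obtain ⟨g', h3, h4⟩ := SetLike.not_le_iff_exists.1 h.m2
    obtain ⟨_, ⟨y, hy, rfl⟩, n, n'⟩ := exists_out h2 h4
    obtain ⟨a, ha, e⟩ := conj_mem h1 ⟨y, hy.1, rfl⟩
    obtain ⟨b, hb, e'⟩ := conj_mem h3 ⟨y, hy.2, rfl⟩
    refine ⟨g' * g⁻¹, (toU K).symm a, (toU K).symm b, ha, fun c => n ⟨a, ⟨ha, c⟩, e⟩, hb,
      fun c => n' ⟨b, ⟨c, hb⟩, e'⟩, ?_⟩
    change _ * ψ a * _ = ψ b
    rw [e, e']; group

end

variable {K : Type v} [Field K] [Fintype K] [CharP K 2]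

omit [Fintype K] [CharP K 2] in
theorem real_of {G : Type} [Group G] [Finite G] {ψ : SP4.U K →* G} (h : SP4.Md ψ) :
    ∃ (G' : Type v) (_ : Group G') (_ : Finite G') (φ : M K →* G'), Rl φ ∧
      (nm φ.range ≤ ce ((Z K).map φ) ↔ nm ψ.range ≤ ce ((SP4.Zl K).map ψ)) := by
  obtain ⟨φ, h1, h2, h3⟩ := rl_of_md h
  obtain ⟨h4, h5⟩ := h1.map (MulEquiv.ulift.{0, v}).symm
  exact ⟨_, _, inferInstance, _, h4, by rw [h5, h2, h3]⟩

theorem real2 (hK : Fintype.card K = 2) : ∃ (G : Type v) (_ : Group G) (_ : Finite G)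
    (φ : M K →* G), Rl φ ∧ nm φ.range ≤ ce ((Z K).map φ) := by
  obtain ⟨G, _, _, ψ, h⟩ := SP4.model2 hK
  obtain ⟨G', _, _, φ, h1, -⟩ := real_of h
  refine ⟨G', _, ‹_›, φ, h1, ?_⟩
  rintro g - _ ⟨a, ha, rfl⟩
  obtain ⟨b, hb, e⟩ := conj_mem (h1.nZ g) ⟨a, ha, rfl⟩
  by_cases a1 : a = 1
  · simp [a1]
  have b1 : b ≠ 1 := fun c => a1 (h1.inj (by
    rw [c, map_one] at e
    rw [map_one]
    simpa using e.symm))
  have k : ∀ m ∈ Z K, m ≠ 1 → m.w ≠ 0 := fun m hm n c => n (M.ext hm.1 hm.2.1 hm.2.2 c)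
  have : b = a := by
    refine M.ext (hb.1.trans ha.1.symm) (hb.2.1.trans ha.2.1.symm) (hb.2.2.trans ha.2.2.symm) ?_
    have p := FiniteField.pow_card_sub_one_eq_one _ (k a ha a1)
    have q := FiniteField.pow_card_sub_one_eq_one _ (k b hb b1)
    rw [hK] at p q
    simpa using q.trans p.symm
  rw [this] at e
  exact (mul_inv_eq_iff_eq_mul.1 e.symm).symm

theorem real4 (hK : Fintype.card K = 4) : ∃ (G : Type v) (_ : Group G) (_ : Finite G)
    (φ : M K →* G), Rl φ ∧ nm φ.range ≤ ce ((Z K).map φ) := by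
  obtain ⟨G, _, _, ψ, h, hb⟩ := SP4.model4 hK True
  obtain ⟨G', _, _, φ, h1, h2⟩ := real_of h
  exact ⟨G', _, ‹_›, φ, h1, h2.2 (hb.2 trivial)⟩

theorem real4' (hK : Fintype.card K = 4) : ∃ (G : Type v) (_ : Group G) (_ : Finite G)
    (φ : M K →* G), Rl φ ∧ ¬ nm φ.range ≤ ce ((Z K).map φ) := by
  obtain ⟨G, _, _, ψ, h, hb⟩ := SP4.model4 hK False
  obtain ⟨G', _, _, φ, h1, h2⟩ := real_of h
  exact ⟨G', _, ‹_›, φ, h1, fun c => hb.1 (h2.1 c)⟩

end Cfsg.Agent.SPQ
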