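import Cfsg.Agent.SPQ.LinU

/-! Project SPQ: the quadratic modules in characteristic two. -/

set_option autoImplicit false

namespace Cfsg.Agent.SPQ

variable {K : Type*} [Field K] [Finite K] [CharP K 2] {f : K → K → K}
  {N Γ : Subgroup (Au (V K))} {γ : Au (V K)} {c : K}

namespace LEv

open LU Subgroup

/-- `γ` stabilises the hyperplane -/
def PZ (γ : Au (V K)) : Prop := ∀ y : V K, y.1 = 0 → (γ y).1 = 0

omit [CharP K 2] in
theorem PZ.inv (h : PZ γ) : PZ γ⁻¹ := inv_pres (P := fun y : V K => y.1 = 0) h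

omit [Finite K] [CharP K 2] in
theorem PZ.mul {δ : Au (V K)} (h : PZ γ) (h' : PZ δ) : PZ (γ * δ) := fun y hy => h _ (h' y hy)

omit [Finite K] in
theorem isN {t : K} (h : IsN f t γ) (u v w : K) : γ (u, v, w) = (u, v + t * u, w + f t u) := by
  rw [h, CharTwo.two_eq_zero]; simp

omit [Finite K] in
theorem isN_Z {t : K} (h : IsN f t γ) {y : V K} (hy : y.1 = 0) : γ y = y := by
  obtain ⟨u, v, w⟩ := y
  obtain rfl : u = 0 := hy
  rw [isN h, isN_f0 h]; simp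

omit [Finite K] in
theorem one (h : Lin0 2 f N Γ) (hγ : γ ∈ Γ) (h1 : ∀ w, γ (0, 0, w) = (0, 0, w))
    (h2 : ∀ y, (γ y).1 = y.1 ∧ (γ y).2.1 = y.2.1) : γ = 1 := by
  obtain ⟨t, ht⟩ := h.mem γ (h.mem_N hγ (fun y => (h2 y).1) (fun y _ => (h2 y).2) h1)
  have : t = 0 := by
    have := (h2 (1, 0, 0)).2
    rw [ht] at this
    simpa using this
  exact isN_eq (this ▸ ht) h.zero

omit [Finite K] in
theorem eq_of_two (h : Lin0 2 f N Γ) {a b : Au (V K)} (ha : a ∈ Γ) (hb : b ∈ Γ)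
    (a1 : ∀ w, a (0, 0, w) = (0, 0, w)) (b1 : ∀ w, b (0, 0, w) = (0, 0, w))
    (h2 : ∀ y, (a y).1 = (b y).1 ∧ (a y).2.1 = (b y).2.1) : a = b := by
  rw [← inv_mul_eq_one]
  refine one h (mul_mem (inv_mem ha) hb)
    (fun w => by rw [LinearEquiv.mul_apply, b1, inv_fix (a1 w)]) fun y => ?_
  have e : b y = a y + (0, 0, (b y).2.2 - (a y).2.2) :=
    Prod.ext (by simp [(h2 y).1]) (Prod.ext (by simp [(h2 y).2]) (by simp))
  rw [LinearEquiv.mul_apply, e, map_add, Au.inv_apply, inv_fix (a1 _)]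
  simp

theorem nm (h : Lin0 2 f N Γ) (hγ : γ ∈ Γ) (h1 : PZ γ) :
    γ ∈ Subgroup.normalizer (N : Set (Au (V K))) := by
  refine mem_normalizer_fintype fun n hn => ?_
  obtain ⟨t, ht⟩ := h.mem n hn
  have fix : ∀ y : V K, y.1 = 0 → (γ * n * γ⁻¹) y = y := fun y hy => by
    change γ (n (γ⁻¹ y)) = y
    rw [isN_Z ht (h1.inv y hy), Au.apply_inv]
  refine h.mem_N (mul_mem (mul_mem hγ (h.syl.le hn)) (inv_mem hγ)) (fun y => ?_)
    (fun y hy => by rw [fix y hy]) fun w => fix _ rfl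
  have := h1 (n (γ⁻¹ y) - γ⁻¹ y) (by
    obtain ⟨u, v, w⟩ := γ⁻¹ y
    rw [isN ht]; simp)
  rw [map_sub, Au.apply_inv, Prod.fst_sub, sub_eq_zero] at this
  exact this

theorem mover (h : Lin 2 f N Γ) : ∃ g ∈ Γ, ¬ PZ g := by
  by_contra! hc
  exact h.nn fun g hg => nm (lin0 h) hg (hc g hg)

/-- no non-zero element of `Z ⊓ gZ` is of the form `n x - x`, `x ∈ gZ` -/
theorem noR (h : Lin0 2 f N Γ) {g : Au (V K)} (hg : g ∈ Γ) {x y : V K} (hx : x.1 = 0)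
    (hy : y.1 = 0) {t : K} (e : g y = (0, t * (g x).1, f t (g x).1)) : t * (g x).1 = 0 := by
  obtain ⟨n, hn, ht⟩ := h.ex t
  let D : AddSubgroup (V K) :=
    { carrier := {d | d.1 = 0 ∧ (g⁻¹ d).1 = 0}
      zero_mem' := ⟨rfl, by rw [map_zero]; rfl⟩
      add_mem' := fun {a b} ha hb => ⟨by rw [Prod.fst_add, ha.1, hb.1, add_zero], by
        rw [map_add, Prod.fst_add, ha.2, hb.2, add_zero]⟩
      neg_mem' := fun {a} ha => ⟨by rw [Prod.fst_neg, ha.1, neg_zero], by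
        rw [map_neg, Prod.fst_neg, ha.2, neg_zero]⟩ }
  have e2 : n (g x) - g x = g y := by
    rw [e]
    obtain ⟨u, v, w⟩ := g x
    rw [isN ht]; simp
  have := F1 h.syl hg hn (x := g x) D (fun d hd => isN_Z ht hd.1)
    (fun m hm d hd => by obtain ⟨s, hs⟩ := h.mem m hm; exact isN_Z hs hd.2)
    (fun m hm => by obtain ⟨s, hs⟩ := h.mem m hm; rw [Au.inv_apply]; exact isN_Z hs hx)
    (by rw [e2]; exact ⟨by rw [e], by rw [Au.inv_apply]; exact hy⟩)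
  rw [this, sub_self, e] at e2
  exact (congrArg (fun y : V K => y.2.1) e2).symm

omit [Finite K] in
theorem f_add (hf : f = fA ∨ f = fB) (t t' u : K) : f (t + t') u = f t u + f t' u := by
  rcases hf with rfl | rfl
  · simp only [fA, CharTwo.add_sq, add_mul]
  · simp only [fB, add_mul]

theorem count (hf : f = fA ∨ f = fB) (h : Lin0 2 f N Γ) {g : Au (V K)} (hg : g ∈ Γ) (hZ : ¬ PZ g) :
    (∀ u, ∃ x : V K, x.1 = 0 ∧ (g x).1 = u) ∧
      Nat.card {y : K × K // (g (0, y)).1 = 0} = Nat.card K := by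
  obtain ⟨x, hx, hu⟩ : ∃ x : V K, x.1 = 0 ∧ (g x).1 ≠ 0 := by simpa [PZ] using hZ
  let φ : K × K →+ K := (AddMonoidHom.fst K (K × K)).comp
    ((g : V K →+ V K).comp (AddMonoidHom.inr K (K × K)))
  have h1 : Nat.card φ.ker * Nat.card φ.range = Nat.card K * Nat.card K := by
    rw [← AddSubgroup.index_ker, AddSubgroup.card_mul_index, Nat.card_prod]
  have h2 : Nat.card (φ.ker × K) ≤ Nat.card (K × K) := by
    refine Nat.card_le_card_of_injective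
      (fun z => (g (0, z.1.1)).2 + (z.2 * (g x).1, f z.2 (g x).1)) ?_
    rintro ⟨⟨a, ha⟩, t⟩ ⟨⟨b, hb⟩, s⟩ e
    have ha' : (g (0, a)).1 = 0 := ha
    have hb' : (g (0, b)).1 = 0 := hb
    have e1 := congrArg Prod.fst e
    have e2 := congrArg Prod.snd e
    simp only [Prod.fst_add, Prod.snd_add] at e1 e2
    have h2 : (2 : K) = 0 := CharTwo.two_eq_zero
    have e3 : g (0, a + b) = (0, (t + s) * (g x).1, f (t + s) (g x).1) := by
      rw [show ((0, a + b) : V K) = (0, a) + (0, b) by simp, map_add, f_add hf]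
      refine Prod.ext (by simp [ha', hb']) (Prod.ext ?_ ?_)
      · simp only [Prod.fst_add, Prod.snd_add]
        linear_combination e1 + ((g (0, b)).2.1 - t * (g x).1) * h2
      · simp only [Prod.snd_add]
        linear_combination e2 + ((g (0, b)).2.2 - f t (g x).1) * h2
    have e4 := (mul_eq_zero.1 (noR h hg hx rfl e3)).resolve_right hu
    obtain rfl : t = s := by linear_combination e4 - s * h2
    have e5 : g (0, a) = g (0, b) := Prod.ext (ha'.trans hb'.symm) (add_right_cancel e)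
    obtain rfl : a = b := congrArg Prod.snd (g.injective e5)
    rfl
  rw [Nat.card_prod, Nat.card_prod] at h2
  have h3 : Nat.card φ.range ≤ Nat.card K := φ.range.card_le_card_addGroup
  have h4 : 0 < Nat.card K := Nat.card_pos
  have h5 : Nat.card φ.ker ≤ Nat.card K := Nat.le_of_mul_le_mul_right h2 h4
  have h6 : Nat.card φ.range = Nat.card K := by nlinarith
  have h7 := AddSubgroup.eq_top_of_card_eq _ h6
  refine ⟨fun u => ?_, ?_⟩
  · obtain ⟨y, hy⟩ : u ∈ φ.range := h7 ▸ AddSubgroup.mem_top u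
    exact ⟨(0, y), rfl, hy⟩
  · rw [h6] at h1
    exact Nat.eq_of_mul_eq_mul_right h4 h1

theorem D_or (hf : f = fA ∨ f = fB) (h : Lin0 2 f N Γ) {g : Au (V K)} (hg : g ∈ Γ) (hZ : ¬ PZ g)
    {y : V K} (hy : y.1 = 0) (h0 : (g y).1 = 0) : (g y).2.1 = 0 ∨ (g y).2.2 = 0 := by
  by_contra! hc
  obtain ⟨t, u, h1, h2⟩ : ∃ t u, t * u = (g y).2.1 ∧ f t u = (g y).2.2 := by
    obtain ⟨h1, h2⟩ := hc
    rcases hf with rfl | rfl
    · exact ⟨(g y).2.2 / (g y).2.1, (g y).2.1 ^ 2 / (g y).2.2, by field_simp,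
        by rw [fA]; field_simp⟩
    · exact ⟨(g y).2.1 ^ 2 / (g y).2.2, (g y).2.2 / (g y).2.1, by field_simp,
        by rw [fB]; field_simp⟩
  obtain ⟨x, hx, rfl⟩ := (count hf h hg hZ).1 u
  exact hc.1 (h1 ▸ noR h hg hx hy (Prod.ext h0 (Prod.ext h1.symm h2.symm)))

section c

variable (hf : f = fA ∨ f = fB) (h : Lin0 2 f N Γ) (hc : c ≠ 0) (hx : Fx Γ (0, 0, c))
include hf h hc hx

theorem D_le {g : Au (V K)} (hg : g ∈ Γ) (hZ : ¬ PZ g) {y : V K} (hy : y.1 = 0)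
    (h0 : (g y).1 = 0) : (g y).2.1 = 0 := by
  by_contra hv
  have h1 := (D_or hf h hg hZ hy h0).resolve_left hv
  have h2 := D_or hf h hg hZ (y := y + g⁻¹ (0, 0, c))
    (by rw [Prod.fst_add, hy, hx _ (inv_mem hg), add_zero])
    (by rw [map_add, Au.apply_inv, Prod.fst_add, h0, add_zero])
  rw [map_add, Au.apply_inv] at h2
  simp [hv, h1, hc] at h2

theorem D_ge {g : Au (V K)} (hg : g ∈ Γ) (hZ : ¬ PZ g) (w : K) :
    ∃ y : V K, y.1 = 0 ∧ g y = (0, 0, w) := by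
  have hi : Function.Injective fun y : {y : K × K // (g (0, y)).1 = 0} => (g (0, y.1)).2.2 :=
    fun a b e => Subtype.ext (congrArg Prod.snd (g.injective (Prod.ext (a.2.trans b.2.symm)
      (Prod.ext ((D_le hf h hc hx hg hZ rfl a.2).trans (D_le hf h hc hx hg hZ rfl b.2).symm) e))))
  obtain ⟨y, hy⟩ := (hi.bijective_of_nat_card_le (count hf h hg hZ).2.ge).2 w
  exact ⟨(0, y.1), rfl, Prod.ext y.2 (Prod.ext (D_le hf h hc hx hg hZ rfl y.2) hy)⟩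

theorem inv0 {g : Au (V K)} (hg : g ∈ Γ) (hZ : ¬ PZ g) (w : K) :
    ∃ w', g (0, 0, w) = (0, 0, w') := by
  obtain ⟨y, hy, e⟩ := D_ge hf h hc hx (inv_mem hg) (fun c => hZ (inv_inv g ▸ c.inv)) w
  have h0 : (g (0, 0, w)).1 = 0 := by rw [← e, Au.apply_inv, hy]
  exact ⟨_, Prod.ext h0 (Prod.ext (D_le hf h hc hx hg hZ rfl h0) rfl)⟩

theorem inv {g : Au (V K)} (hg : g ∈ Γ) (hZ : ¬ PZ g) (hγ : γ ∈ Γ) (w : K) :
    ∃ w', γ (0, 0, w) = (0, 0, w') := by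
  by_cases h1 : PZ γ
  · obtain ⟨w1, e1⟩ := inv0 hf h hc hx (inv_mem hg) (fun c => hZ (inv_inv g ▸ c.inv)) w
    obtain ⟨w2, e2⟩ := inv0 hf h hc hx (mul_mem hγ hg)
      (fun c => hZ (inv_mul_cancel_left γ g ▸ h1.inv.mul c)) w1
    refine ⟨w2, ?_⟩
    rw [← e2, ← e1, LinearEquiv.mul_apply, Au.apply_inv]
  · exact inv0 hf h hc hx hγ h1 w

theorem pz_of {g : Au (V K)} (hg : g ∈ Γ) (hZ : ¬ PZ g) (hγ : γ ∈ Γ) {y : V K} (h1 : y.1 = 0)
    (h2 : y.2.1 ≠ 0) (h0 : (γ y).1 = 0) : PZ γ := by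
  by_contra hn
  obtain ⟨w, e⟩ := inv hf h hc hx hg hZ (inv_mem hγ) (γ y).2.2
  rw [show ((0, 0, (γ y).2.2) : V K) = γ y from
    Prod.ext h0.symm (Prod.ext (D_le hf h hc hx hγ hn h1 h0).symm rfl), Au.inv_apply] at e
  exact h2 (by rw [e])

theorem upper {g : Au (V K)} (hg : g ∈ Γ) (hZ : ¬ PZ g)
    (h0 : ∀ y : V K, y.1 = 0 → (g y).2.1 = 0) {n : Au (V K)} (hn : n ∈ N) :
    ∃ s, ∀ u v w, (g * n * g⁻¹) (u, v, w) = (u + s * v, v, w + ((g * n * g⁻¹) (0, v, 0)).2.2) := by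
  obtain ⟨r, hr⟩ := h.mem n hn
  have hZ' : ∀ y : V K, y.2.1 = 0 → (g⁻¹ y).1 = 0 := fun y hy => by
    obtain ⟨x, x1, x2⟩ := (count hf h hg hZ).1 y.1
    obtain ⟨z, z1, z2⟩ := D_ge hf h hc hx hg hZ (y.2.2 - (g x).2.2)
    have : y = g (x + z) := by
      rw [map_add, z2]
      exact Prod.ext (by simp [x2]) (Prod.ext (by simp [hy, h0 x x1]) (by simp))
    rw [this, Au.inv_apply, Prod.fst_add, x1, z1, add_zero]
  have hmΓ : g * n * g⁻¹ ∈ Γ := mul_mem (mul_mem hg (h.syl.le hn)) (inv_mem hg)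
  have fix : ∀ y : V K, y.2.1 = 0 → (g * n * g⁻¹) y = y := fun y hy => by
    change g (n (g⁻¹ y)) = y
    rw [isN_Z hr (hZ' y hy), Au.apply_inv]
  have snd : ∀ y : V K, ((g * n * g⁻¹) y).2.1 = y.2.1 := fun y => by
    have := h0 (n (g⁻¹ y) - g⁻¹ y) (by
      obtain ⟨u, v, w⟩ := g⁻¹ y
      rw [isN hr]; simp)
    rw [map_sub, Au.apply_inv, Prod.snd_sub, Prod.fst_sub, sub_eq_zero] at this
    exact this
  generalize g * n * g⁻¹ = m at hmΓ fix snd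
  have key : ∀ v, (m (0, v, 0)).1 = (m (0, 1, 0)).1 * v := fun v => by
    by_cases hs : (m (0, 1, 0)).1 = 0
    · rw [hs, zero_mul]
      exact pz_of hf h hc hx hg hZ hmΓ (y := (0, 1, 0)) rfl one_ne_zero hs _ rfl
    obtain ⟨k, hk, ht⟩ := h.ex ((m (0, 1, 0)).1)⁻¹
    have e : ∀ y : V K, (k y).2.1 = y.2.1 + ((m (0, 1, 0)).1)⁻¹ * y.1 := fun ⟨u, v, w⟩ => by
      rw [isN ht]
    have h1 := pz_of hf h hc hx hg hZ (mul_mem (inv_mem hg) (mul_mem (h.syl.le hk) hmΓ))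
      (y := (0, 1, 0)) rfl one_ne_zero (hZ' (k (m (0, 1, 0))) (by
        rw [e, snd, inv_mul_cancel₀ hs]
        exact CharTwo.add_self_eq_zero _))
    have h2 := h0 _ (h1 (0, v, 0) rfl)
    change (g (g⁻¹ (k (m (0, v, 0))))).2.1 = 0 at h2
    rw [Au.apply_inv, e, snd, CharTwo.add_eq_zero] at h2
    change v = _ at h2
    rw [eq_comm, inv_mul_eq_iff_eq_mul₀ hs] at h2
    exact h2
  refine ⟨(m (0, 1, 0)).1, fun u v w => ?_⟩
  rw [show ((u, v, w) : V K) = (u, 0, w) + (0, v, 0) by simp, map_add, fix _ rfl]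
  exact Prod.ext (by simp [key v]) (Prod.ext (by simp [snd]) (by simp))

theorem norm0 {g : Au (V K)} (hg : g ∈ Γ) (hZ : ¬ PZ g)
    (h0 : ∀ y : V K, y.1 = 0 → (g y).2.1 = 0) :
    ∃ χ : K →+ K, ∀ s, ∃ γ ∈ Γ, ∀ u v w,
      γ (u, v, w + χ u) = (u + s * v, v, w + f s v + χ (u + s * v)) := by
  choose n hn hN using h.ex
  choose σ hσ using fun r => upper hf h hc hx hg hZ h0 (hn r)
  have hm : ∀ r, g * n r * g⁻¹ ∈ Γ := fun r =>
    mul_mem (mul_mem hg (h.syl.le (hn r))) (inv_mem hg)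
  have m0 : ∀ r w, (g * n r * g⁻¹) (0, 0, w) = (0, 0, w) := fun r w => by
    rw [hσ, show ((0, 0, 0) : V K) = 0 from rfl, map_zero]; simp
  have hi : Function.Injective σ := fun r r' e => by
    have h1 := eq_of_two h (hm r) (hm r') (m0 r) (m0 r') fun ⟨u, v, w⟩ => by
      rw [hσ, hσ r' u, e]; exact ⟨rfl, rfl⟩
    rw [mul_left_inj, mul_right_inj] at h1
    have h2 := hN r 1 0 0
    rw [h1, hN] at h2
    simpa using (congrArg (fun y : V K => y.2.1) h2).symm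
  choose ι hι using Finite.injective_iff_surjective.1 hi
  obtain ⟨m, hmΓ, hms⟩ : ∃ m : K → Au (V K), (∀ s, m s ∈ Γ) ∧
      ∀ s u v w, m s (u, v, w) = (u + s * v, v, w + (m s (0, v, 0)).2.2) :=
    ⟨fun s => g * n (ι s) * g⁻¹, fun s => hm _, fun s u v w => by rw [hσ, hι]⟩
  have ms0 : ∀ r w, m r (0, 0, w) = (0, 0, w) := fun r w => by
    rw [hms, show ((0, 0, 0) : V K) = 0 from rfl, map_zero]; simp
  have h2 : (2 : K) = 0 := CharTwo.two_eq_zero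
  let p3 : V K →+ K := (AddMonoidHom.snd K K).comp (AddMonoidHom.snd K (K × K))
  let ψ : K →+ K := p3.comp ((m 1 : V K →+ V K).comp
    ((AddMonoidHom.inr K (K × K)).comp (AddMonoidHom.inl K K)))
  let φ : K →+ K := p3.comp ((n 1 : V K →+ V K).comp (AddMonoidHom.inl K (K × K)))
  have hψ : ∀ v, (m 1 (0, v, 0)).2.2 = ψ v := fun _ => rfl
  have hφ : ∀ u, f 1 u = φ u := fun u => by
    change _ = (n 1 (u, 0, 0)).2.2
    rw [isN (hN 1)]
    exact (zero_add _).symm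
  have hw : ∀ u v w, (n 1 * m 1 * n 1) (u, v, w) = (v, u, w + φ u + ψ (v + u) + φ v) := by
    intro u v w
    change n 1 (m 1 (n 1 _)) = _
    rw [isN (hN 1), hms, isN (hN 1), hψ, hφ, hφ,
      show u + 1 * (v + 1 * u) = v by linear_combination u * h2, one_mul, one_mul,
      show v + u + v = u by linear_combination v * h2]
  have hwΓ : n 1 * m 1 * n 1 ∈ Γ :=
    mul_mem (mul_mem (h.syl.le (hn 1)) (hmΓ 1)) (h.syl.le (hn 1))
  generalize n 1 * m 1 * n 1 = w₁ at hw hwΓ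
  refine ⟨φ + ψ, fun s => ⟨m s, hmΓ s, fun u v w => ?_⟩⟩
  have e := eq_of_two h (mul_mem hwΓ (h.syl.le (hn s))) (mul_mem (hmΓ s) hwΓ)
    (fun w => by rw [LinearEquiv.mul_apply, isN_V0 (hN s), hw]; simp)
    (fun w => by rw [LinearEquiv.mul_apply, hw, add_zero, map_zero, map_zero, add_zero, add_zero,
      add_zero, ms0]) fun ⟨u, v, w⟩ => by
      rw [LinearEquiv.mul_apply, LinearEquiv.mul_apply, isN (hN s), hw, hw, hms]
      exact ⟨rfl, rfl⟩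
  have e1 := congrArg (fun a : Au (V K) => (a (v, 0, 0)).2.2) e
  simp only [LinearEquiv.mul_apply] at e1
  rw [isN (hN s), hw, hw, hms] at e1
  simp only [zero_add, map_add, map_zero, add_zero] at e1
  rw [hms]
  refine Prod.ext rfl (Prod.ext rfl ?_)
  simp only [AddMonoidHom.add_apply, map_add]
  linear_combination -e1

end c

omit [Finite K] in
theorem wt (h : Lin0 2 f N Γ) (hm : ∀ s, ∃ γ ∈ Γ, IsM f s γ) {t : K} (ht : t ≠ 0) :
    ∃ γ ∈ Γ, ∀ u v w, γ (u, v, w) =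
      (t⁻¹ * v, t * u, w + f t u + f t⁻¹ (v + t * u) + f t (t⁻¹ * v)) := by
  obtain ⟨n, hn, hN⟩ := h.ex t
  obtain ⟨m, hmΓ, hM⟩ := hm t⁻¹
  refine ⟨n * m * n, mul_mem (mul_mem (h.syl.le hn) hmΓ) (h.syl.le hn), fun u v w => ?_⟩
  have h2 : (2 : K) = 0 := CharTwo.two_eq_zero
  change n (m (n _)) = _
  rw [isN hN, hM, isN hN, show u + t⁻¹ * (v + t * u) = t⁻¹ * v by
      rw [mul_add, inv_mul_cancel_left₀ ht]; linear_combination u * h2,
    mul_inv_cancel_left₀ ht, show v + t * u + v = t * u by linear_combination v * h2]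

end LEv

open LU LEv

theorem lin2_or (hf : f = fA ∨ f = fB) (h : Lin 2 f N Γ) {y : V K} (hy : Fx Γ y) :
    y.2.1 = 0 ∨ y.2.2 = 0 := by
  obtain ⟨g, hg, hZ⟩ := mover h
  have := D_or hf (lin0 h) hg hZ (hy _ (inv_mem hg)) (by rw [Au.apply_inv]; exact hy 1 (one_mem _))
  rwa [Au.apply_inv] at this

set_option linter.unusedSectionVars false in
theorem lin2_one (h : Lin 2 f N Γ) (hγ : γ ∈ Γ) (h1 : ∀ w, γ (0, 0, w) = (0, 0, w))
    (h2 : ∀ y, (γ y).1 = y.1 ∧ (γ y).2.1 = y.2.1) : γ = 1 := one (lin0 h) hγ h1 h2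

set_option linter.unusedVariables false in
theorem lin2_nm (hf : f = fA ∨ f = fB) (h : Lin 2 f N Γ) (hγ : γ ∈ Γ)
    (h1 : ∀ y, y.1 = 0 → (γ y).1 = 0) :
    γ ∈ Subgroup.normalizer (N : Set (Au (V K))) := LEv.nm (lin0 h) hγ h1

theorem lin2_inv (hf : f = fA ∨ f = fB) (h : Lin 2 f N Γ) (hc : c ≠ 0) (hx : Fx Γ (0, 0, c))
    (hγ : γ ∈ Γ) (w : K) : ∃ w', γ (0, 0, w) = (0, 0, w') := by
  obtain ⟨g, hg, hZ⟩ := mover h
  exact LEv.inv hf (lin0 h) hc hx hg hZ hγ w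

theorem lin2_norm (hf : f = fA ∨ f = fB) (h : Lin 2 f N Γ) (hc : c ≠ 0) (hx : Fx Γ (0, 0, c)) :
    ∃ ρ χ : K →+ K, ∀ s, ∃ γ ∈ Γ, ∀ u v w, γ (u, v + ρ u, w + χ u) =
      (u + s * v, v + ρ (u + s * v), w + f s v + χ (u + s * v)) := by
  obtain ⟨g, hg, hZ⟩ := mover h
  have h0 := lin0 h
  have h2 : (2 : K) = 0 := CharTwo.two_eq_zero
  choose x x1 x2 using (count hf h0 hg hZ).1
  have wd : ∀ y : V K, y.1 = 0 → (g y).2.1 = (g (x (g y).1)).2.1 := fun y hy => by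
    have := D_le hf h0 hc hx hg hZ (y := y - x (g y).1) (by rw [Prod.fst_sub, hy, x1, sub_zero])
      (by rw [map_sub, Prod.fst_sub, x2, sub_self])
    rwa [map_sub, Prod.snd_sub, Prod.fst_sub, sub_eq_zero] at this
  let ρ : K →+ K := AddMonoidHom.mk' (fun u => (g (x u)).2.1) fun u u' => by
    have := wd (x u + x u') (by rw [Prod.fst_add, x1, x1, add_zero])
    rw [map_add, Prod.fst_add, x2, x2] at this
    exact this.symm
  have hρ : ∀ y : V K, y.1 = 0 → (g y).2.1 = ρ (g y).1 := wd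
  let κ : Au (V K) := AddEquiv.toIntLinearEquiv
    { toFun := fun y => (y.1, y.2.1 + ρ y.1, y.2.2)
      invFun := fun y => (y.1, y.2.1 + ρ y.1, y.2.2)
      left_inv := fun y => by simp [add_assoc, CharTwo.add_self_eq_zero]
      right_inv := fun y => by simp [add_assoc, CharTwo.add_self_eq_zero]
      map_add' := fun y z => Prod.ext rfl (Prod.ext (by
        simp only [Prod.fst_add, Prod.snd_add, map_add]; ring) rfl) }
  have k1 : ∀ y : V K, κ y = (y.1, y.2.1 + ρ y.1, y.2.2) := fun _ => rfl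
  have k2 : ∀ y : V K, κ⁻¹ y = (y.1, y.2.1 + ρ y.1, y.2.2) := fun _ => rfl
  have cj : ∀ (a : Au (V K)) (y : V K), (MulAut.conj κ).toMonoidHom a y = κ (a (κ⁻¹ y)) :=
    fun _ _ => rfl
  have cN : ∀ {t : K} {a : Au (V K)}, IsN f t a → IsN f t ((MulAut.conj κ).toMonoidHom a) :=
    fun {t a} ha u v w => by
      rw [cj, k2, isN ha, k1, h2]
      refine Prod.ext rfl (Prod.ext ?_ (by simp))
      change v + ρ u + t * u + ρ u = v + t * u
      linear_combination ρ u * h2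
  have h1 : Lin0 2 f (N.map (MulAut.conj κ).toMonoidHom) (Γ.map (MulAut.conj κ).toMonoidHom) :=
    ⟨h.syl.map _, by
      rintro _ ⟨a, ha, rfl⟩
      obtain ⟨t, ht⟩ := h.mem a ha
      exact ⟨t, cN ht⟩, fun t => by
      obtain ⟨a, ha, ht⟩ := h.ex t
      exact ⟨_, ⟨a, ha, rfl⟩, cN ht⟩⟩
  have kZ : ∀ y : V K, y.1 = 0 → κ⁻¹ y = y := fun y hy => by
    rw [k2, hy, map_zero, add_zero, ← hy]
  obtain ⟨χ, hχ⟩ := norm0 hf h1 hc (by
      rintro _ ⟨a, ha, rfl⟩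
      rw [cj, kZ _ rfl, k1]
      exact hx a ha) ⟨g, hg, rfl⟩ (fun c => hZ fun y hy => by
      have := c y hy
      rwa [cj, kZ y hy, k1] at this) fun y hy => by
      rw [cj, kZ y hy, k1, hρ y hy]
      exact CharTwo.add_self_eq_zero _
  refine ⟨ρ, χ, fun s => ?_⟩
  obtain ⟨_, ⟨a, ha, rfl⟩, e⟩ := hχ s
  refine ⟨a, ha, fun u v w => ?_⟩
  have := congrArg (fun y => κ⁻¹ y) (e u v w)
  simp only [cj, Au.inv_apply] at this
  exact this

theorem lin2_orb (hf : f = fA ∨ f = fB) (h : Lin 2 f N Γ) (hc : c ≠ 0) (hx : Fx Γ (0, 0, c))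
    (hm : ∀ s, ∃ γ ∈ Γ, IsM f s γ) (hγ : γ ∈ Γ) :
    (∀ y, y.1 = 0 → (γ y).1 = 0) ∨ ∃ t, ∀ y, y.1 = 0 → (γ y).2.1 = t * (γ y).1 := by
  obtain ⟨g, hg, hZ⟩ := mover h
  refine or_iff_not_imp_left.2 fun hn => ?_
  obtain ⟨y, hy, hu⟩ : ∃ x : V K, x.1 = 0 ∧ (γ x).1 ≠ 0 := by simpa using hn
  obtain ⟨a, ha, hw⟩ := wt (lin0 h) hm one_ne_zero
  obtain ⟨n, hn', ht⟩ := h.ex ((γ y).2.1 / (γ y).1)
  have e : ∀ z : V K, ((n * a) z).1 = z.2.1 ∧
      ((n * a) z).2.1 = z.1 + (γ y).2.1 / (γ y).1 * z.2.1 := fun ⟨u, v, w⟩ => by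
    rw [LinearEquiv.mul_apply, hw, isN ht]; simp
  have hy2 : y.2.1 ≠ 0 := fun h2 => by
    obtain ⟨w, hw⟩ := lin2_inv hf h hc hx hγ y.2.2
    rw [show ((0, 0, y.2.2) : V K) = y from Prod.ext hy.symm (Prod.ext h2.symm rfl)] at hw
    exact hu (by rw [hw])
  have h1 := pz_of hf (lin0 h) hc hx hg hZ
    (mul_mem (inv_mem (mul_mem (h.syl.le hn') ha)) hγ) hy hy2 (by
      have := e ((n * a)⁻¹ (γ y))
      rw [Au.apply_inv] at this
      obtain ⟨e1, e2⟩ := this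
      rw [← e1, div_mul_cancel₀ _ hu, right_eq_add] at e2
      exact e2)
  refine ⟨(γ y).2.1 / (γ y).1, fun z hz => ?_⟩
  have := e ((n * a)⁻¹ (γ z))
  rw [Au.apply_inv, show ((n * a)⁻¹ (γ z)).1 = 0 from h1 z hz, zero_add] at this
  rw [this.2, ← this.1]

set_option linter.unusedSectionVars false in
theorem lin2_tor (h : Lin 2 f N Γ) (hm : ∀ s, ∃ γ ∈ Γ, IsM f s γ) {a : K} (ha : a ≠ 0) :
    ∃ γ ∈ Γ, (∀ w, γ (0, 0, w) = (0, 0, w)) ∧ ∀ y, (γ y).1 = a * y.1 := by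
  have f0 : ∀ t, f t 0 = 0 := fun t => by
    obtain ⟨n, -, hn⟩ := h.ex t
    exact isN_f0 hn
  obtain ⟨x, hx, ex⟩ := wt (lin0 h) hm (inv_ne_zero ha)
  obtain ⟨y, hy, ey⟩ := wt (lin0 h) hm one_ne_zero
  refine ⟨x * y, mul_mem hx hy, fun w => ?_, fun ⟨u, v, w⟩ => ?_⟩ <;>
    rw [LinearEquiv.mul_apply, ey, ex] <;> simp [f0]

set_option linter.unusedSectionVars false in
theorem lin2_card (h : Lin 2 fA N Γ) (hm : ∀ s, ∃ γ ∈ Γ, IsM fA s γ) {t : K} (ht : t ≠ 0) :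
    t ^ 3 = 1 := by
  obtain ⟨x, hx, ex⟩ := wt (lin0 h) hm ht
  obtain ⟨n, hn, hN⟩ := h.ex 1
  obtain ⟨m, hmΓ, hM⟩ := hm (t⁻¹ ^ 2)
  have h2 : (2 : K) = 0 := CharTwo.two_eq_zero
  have e := eq_of_two (lin0 h) (mul_mem hx (h.syl.le hn)) (mul_mem hmΓ hx)
    (fun w => by rw [LinearEquiv.mul_apply, isN_V0 hN, ex]; simp [fA])
    (fun w => by rw [LinearEquiv.mul_apply, ex, hM]; simp [fA]) fun ⟨u, v, w⟩ => by
      rw [LinearEquiv.mul_apply, LinearEquiv.mul_apply, isN hN, ex, ex, hM]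
      exact ⟨by field_simp, rfl⟩
  have e1 := congrArg (fun a : Au (V K) => (a (1, 0, 0)).2.2) e
  simp only [LinearEquiv.mul_apply] at e1
  rw [isN hN, ex, ex, hM] at e1
  simp only [fA] at e1
  field_simp at e1
  have e2 : (t ^ 3 - 1) * (t - 1) = 0 := by
    linear_combination e1 + (1 - t - t ^ 3) * h2
  rcases mul_eq_zero.1 e2 with e3 | e3
  · exact sub_eq_zero.1 e3
  · rw [sub_eq_zero.1 e3, one_pow]

end Cfsg.Agent.SPQ
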