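import Cfsg.Agent.SPQ.Fus
import Cfsg.Agent.SPQ.LinEven

/-! Project SPQ: characteristic two, reduction to the normal form. -/

set_option autoImplicit false
set_option linter.unusedSectionVars false

namespace Cfsg.Agent.SPQ

open Subgroup Cfsg.Agent.SR3
open scoped commutatorElement

universe u

variable {G : Type u} [Group G] [Finite G] {K : Type*} [Field K] [Finite K] [CharP K 2]
  {φ : M K →* G} {E : Subgroup G}

namespace Ev

theorem two : (2 : K) = 0 := CharTwo.two_eq_zero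

theorem memA {x : G} : x ∈ (A K).map φ ↔ ∃ y, pA φ y = x :=
  ⟨by rintro ⟨⟨t, u, v, w⟩, (rfl : t = 0), rfl⟩; exact ⟨(u, v, w), rfl⟩,
    by rintro ⟨y, rfl⟩; exact ⟨_, mem_A.2 rfl, rfl⟩⟩

theorem memB {x : G} : x ∈ (Q (0 : K)).map φ ↔ ∃ y, pB φ y = x :=
  ⟨by
    rintro ⟨⟨t, u, v, w⟩, h, rfl⟩
    obtain rfl : u = 0 := by simpa using h
    exact ⟨(t, v, w), rfl⟩,
    by rintro ⟨y, rfl⟩; exact ⟨_, by simp, rfl⟩⟩

theorem nm_of {ψ : V K → G} {X : Subgroup G} (hX : ∀ {x}, x ∈ X ↔ ∃ y, ψ y = x) {g : G}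
    {γ : Au (V K)} (h : ∀ y, g * ψ y * g⁻¹ = ψ (γ y)) : g ∈ nm X :=
  mem_nm_of_conj fun x hx => by
    obtain ⟨y, rfl⟩ := hX.1 hx
    exact hX.2 ⟨_, (h y).symm⟩

theorem pA_inj (hφ : Function.Injective φ) : Function.Injective (pA φ) := fun y z e => by
  have := hφ e
  simp only [M.mk.injEq, true_and] at this
  exact Prod.ext this.1 (Prod.ext this.2.1 this.2.2)

theorem pB_inj (hφ : Function.Injective φ) : Function.Injective (pB φ) := fun y z e => by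
  have := hφ e
  simp only [M.mk.injEq, true_and] at this
  exact Prod.ext this.1 (Prod.ext this.2.1 this.2.2)

theorem abA : (A K).map φ ≤ ce ((A K).map φ) := by
  rintro _ ⟨a, ha, rfl⟩ _ ⟨b, hb, rfl⟩
  rw [← map_mul, ← map_mul]
  congr 1
  ext <;> simp_all [add_comm]

theorem abB : (Q (0 : K)).map φ ≤ ce ((Q (0 : K)).map φ) := by
  rintro _ ⟨a, ha, rfl⟩ _ ⟨b, hb, rfl⟩
  rw [← map_mul, ← map_mul]
  congr 1
  ext <;> simp_all [add_comm, two]

theorem cenZ : (Z2 K).map φ ≤ ce φ.range := by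
  rintro _ ⟨a, ha, rfl⟩ _ ⟨b, rfl⟩
  rw [← map_mul, ← map_mul]
  congr 1
  ext <;> simp_all [add_comm, two]

theorem nmA : φ.range ≤ nm ((A K).map φ) := le_nm_of_conj (by
  rintro _ ⟨a, rfl⟩ _ ⟨b, hb, rfl⟩
  exact ⟨a * b * a⁻¹, by simp_all, by simp⟩)

theorem sq_iff (hφ : Function.Injective φ) {m : M K} : φ m * φ m = 1 ↔ m.t = 0 ∨ m.u = 0 := by
  rw [← map_mul, map_eq_one_iff _ hφ, ← mul_eq_zero]
  refine ⟨fun e => ?_, fun e => ?_⟩
  · simpa [CharTwo.add_self_eq_zero] using congrArg M.v e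
  · ext <;> simp [CharTwo.add_self_eq_zero, two, e, pow_two, mul_assoc]

theorem cj_le_or (hφ : Function.Injective φ) {X : Subgroup G} (hX : X ≤ φ.range)
    (h : ∀ x ∈ X, x * x = 1) {g : G} (hg : g ∈ nm φ.range) :
    cj g X ≤ (A K).map φ ∨ cj g X ≤ (Q (0 : K)).map φ := by
  refine SubgroupClass.subset_union.1 ?_
  rintro _ ⟨x, hx, rfl⟩
  obtain ⟨m, hm⟩ := conj_mem hg (hX hx)
  have : φ m * φ m = 1 := by rw [hm, conj_mul, h x hx]; simp
  exact ((sq_iff hφ).1 this).imp (fun e => ⟨m, e, hm⟩) fun e => ⟨m, by simpa using e, hm⟩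

theorem not_comm (hφ : Function.Injective φ) {X : Subgroup G} (hX : X ≤ ce X) {g : G}
    (h1 : cj g ((A K).map φ) ≤ X) (h2 : cj g ((Q (0 : K)).map φ) ≤ X) : False := by
  have := hX (h1 (conj_mem_cj g (memA.2 ⟨(1, 0, 0), rfl⟩))) _
    (h2 (conj_mem_cj g (memB.2 ⟨(1, 0, 0), rfl⟩)))
  rw [conj_mul, conj_mul, mul_left_inj, mul_right_inj, pA, pB, ← map_mul, ← map_mul] at this
  simpa using congrArg M.v (hφ this)

theorem fx_of (hφ : Function.Injective φ) {W : Subgroup G} (hA : W ≤ (A K).map φ)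
    (hB : W ≤ (Q (0 : K)).map φ) (nA : nm ((A K).map φ) ≤ nm W)
    (nB : nm ((Q (0 : K)).map φ) ≤ nm W) {v w : K} (hx : φ ⟨0, 0, v, w⟩ ∈ W) :
    Fx (Gam (pA φ) ⊤) (0, v, w) ∧ Fx (Gam (pB φ) ⊤) (0, v, w) := by
  constructor <;> rintro γ ⟨g, -, hg⟩
  · have := hB (conj_mem (nA (nm_of memA hg)) hx)
    rw [show φ ⟨0, 0, v, w⟩ = pA φ (0, v, w) from rfl, hg, pA, mem_map_iff_mem hφ] at this
    simpa using this
  · have := hA (conj_mem (nB (nm_of memB hg)) hx)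
    rw [show φ ⟨0, 0, v, w⟩ = pB φ (0, v, w) from rfl, hg, pB, mem_map_iff_mem hφ] at this
    exact this

/-- The exceptional endomorphism. -/
def σ : M K →* M K :=
  MonoidHom.mk' (fun m => ⟨m.u, m.t ^ 2, m.w + m.t ^ 2 * m.u, m.v ^ 2 + m.t ^ 2 * m.u ^ 2⟩)
    fun a b => by
      ext <;> simp only [M.mul_t, M.mul_u, M.mul_v, M.mul_w, CharTwo.add_sq, two (K := K), zero_mul,
        add_zero]
      · linear_combination (a.t ^ 2 * b.u) * two (K := K)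
      · linear_combination (a.t ^ 2 * b.u ^ 2) * two (K := K)

theorem σ_apply (m : M K) :
    σ m = ⟨m.u, m.t ^ 2, m.w + m.t ^ 2 * m.u, m.v ^ 2 + m.t ^ 2 * m.u ^ 2⟩ := rfl

theorem σ_inj : Function.Injective (σ : M K → M K) := (injective_iff_map_eq_one _).2 fun m h => by
  have h1 : m.u = 0 := congrArg M.t h
  have h2 : m.t ^ 2 = 0 := congrArg M.u h
  have h3 : m.w + m.t ^ 2 * m.u = 0 := congrArg M.v h
  have h4 : m.v ^ 2 + m.t ^ 2 * m.u ^ 2 = 0 := congrArg M.w h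
  ext <;> simp_all

theorem map_eq {κ : M K →* M K} (hκ : Function.Injective κ) {X Y : Subgroup (M K)}
    (h : ∀ m, κ m ∈ Y ↔ m ∈ X) : X.map (φ.comp κ) = Y.map φ := by
  rw [← map_map, ← map_comap_eq_self_of_surjective (Finite.surjective_of_injective hκ) Y]
  congr 2
  ext m
  exact (h m).symm

theorem range_eq {κ : M K →* M K} (hκ : Function.Injective κ) : (φ.comp κ).range = φ.range := by
  rw [MonoidHom.range_eq_map, MonoidHom.range_eq_map]
  exact map_eq hκ fun _ => Iff.rfl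

theorem stay {S X : Subgroup G} (hS : IsPGroup 2 S) (hF : (groupFusionSystem S).IsSaturated 2)
    (hn : nm S ≤ nm X) (he : ∀ E, (groupFusionSystem S).IsEssential 2 E → E = X) {g x : G}
    (h1 : x ∈ S) (h2 : g * x * g⁻¹ ∈ S) (hx : x ∈ X) : g * x * g⁻¹ ∈ X := by
  refine H91.alperin_induction hS hF (P := zpowers x) (C := fun f => f x ∈ X)
    (f := fun y => g * y * g⁻¹) (fun f e => (e x (mem_zpowers x)).symm ▸ hx)
    (fun f k R α _ ih hR hα h3 h4 => ?_) (H91.M_group_iff.2 ⟨zpowers_le.2 h1, ?_, g, fun _ _ => rfl⟩)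
  · obtain ⟨a, ha, rfl⟩ := (fus_mem_aut (hR.elim Eq.le fun h => h.1.1)).1 hα
    rw [h4 x (mem_zpowers x), H91.efn_cjAut R a ha (h3 x (mem_zpowers x))]
    refine conj_mem ?_ ih
    rcases hR with rfl | hR
    · exact hn ha
    · exact he R hR ▸ ha
  · rintro _ ⟨k, rfl⟩
    rw [← conj_zpow]
    exact zpow_mem h2 k

/-- The shears. -/
def κ (ρ χ ρ' χ' : K →+ K) : M K →* M K :=
  MonoidHom.mk' (fun m => ⟨m.t, m.u, m.v + ρ m.u + ρ' m.t, m.w + χ m.u + χ' m.t⟩) fun a b => by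
    ext <;> simp only [M.mul_t, M.mul_u, M.mul_v, M.mul_w, map_add, two (K := K), zero_mul,
      add_zero] <;> ring

theorem κ_apply (ρ χ ρ' χ' : K →+ K) (m : M K) :
    κ ρ χ ρ' χ' m = ⟨m.t, m.u, m.v + ρ m.u + ρ' m.t, m.w + χ m.u + χ' m.t⟩ := rfl

theorem κ_inj (ρ χ ρ' χ' : K →+ K) : Function.Injective (κ ρ χ ρ' χ') :=
  (injective_iff_map_eq_one _).2 fun m h => by
    have h1 : m.t = 0 := congrArg M.t h
    have h2 : m.u = 0 := congrArg M.u h
    have h3 : m.v + ρ m.u + ρ' m.t = 0 := congrArg M.v h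
    have h4 : m.w + χ m.u + χ' m.t = 0 := congrArg M.w h
    ext <;> simp_all

theorem shear {ψ ψ' : V K → G} {X : Subgroup G} (hX : ∀ {x}, x ∈ X ↔ ∃ y, ψ y = x)
    (hX' : ∀ {x}, x ∈ X ↔ ∃ y, ψ' y = x) (hi : Function.Injective ψ)
    (gam : ∀ g ∈ nm X, ∃ γ : Au (V K), ∀ y, g * ψ y * g⁻¹ = ψ (γ y))
    (gam' : ∀ g ∈ nm X, ∃ γ : Au (V K), ∀ y, g * ψ' y * g⁻¹ = ψ' (γ y)) {ρ χ : K →+ K}
    (e : ∀ u v w, ψ' (u, v, w) = ψ (u, v + ρ u, w + χ u)) {f : K → K → K} {c : K}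
    (hx : Fx (Gam ψ ⊤) (0, 0, c))
    (hm : ∀ s, ∃ γ ∈ Gam ψ ⊤, ∀ u v w, γ (u, v + ρ u, w + χ u) =
      (u + s * v, v + ρ (u + s * v), w + f s v + χ (u + s * v))) :
    Fx (Gam ψ' ⊤) (0, 0, c) ∧ ∀ s, ∃ γ ∈ Gam ψ' ⊤, IsM f s γ := by
  refine ⟨?_, fun s => ?_⟩
  · rintro γ' ⟨g, -, hg'⟩
    obtain ⟨γ, hg⟩ := gam g (nm_of hX' hg')
    have h1 := hg' (0, 0, c)
    rw [e, map_zero, map_zero, add_zero, add_zero, hg, ← Prod.mk.eta (p := γ' (0, 0, c)),
      ← Prod.mk.eta (p := (γ' (0, 0, c)).2), e] at h1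
    exact (congrArg Prod.fst (hi h1)).symm.trans (hx γ ⟨g, trivial, hg⟩)
  · obtain ⟨γ, ⟨g, -, hg⟩, h⟩ := hm s
    obtain ⟨γ', hg'⟩ := gam' g (nm_of hX hg)
    refine ⟨γ', ⟨g, trivial, hg'⟩, fun u v w => ?_⟩
    have h1 := hg' (u, v, w)
    rw [e, hg, h, ← Prod.mk.eta (p := γ' (u, v, w)), ← Prod.mk.eta (p := (γ' (u, v, w)).2), e] at h1
    have h2 := hi h1
    simp only [Prod.mk.injEq] at h2
    obtain ⟨a1, a2, a3⟩ := h2
    rw [← a1] at a2 a3
    exact Prod.ext a1.symm (Prod.ext (add_right_cancel a2).symm (add_right_cancel a3).symm)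

end Ev

open Ev

theorem even_ess (hφ : Function.Injective φ) (h : Es 2 φ.range E) :
    E = (A K).map φ ∨ E = (Q (0 : K)).map φ := by
  have hZ : (Z2 K).map φ ≤ E ⊓ ce E :=
    have h1 := (cenZ (φ := φ)).trans (centralizer_le h.le)
    le_inf ((le_inf (map_le_range _ _) h1).trans h.cen) h1
  have hn : ¬ nm E ≤ nm ((Z2 K).map φ) := fun hn => h.ne fun x hx =>
    h.rad2 (hZ.trans inf_le_left) hn hx ⟨ce_le_nm le_rfl (le_centralizer_iff.1 cenZ hx), by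
      obtain ⟨a, rfl⟩ := hx
      intro y hy
      obtain ⟨b, rfl⟩ := h.le hy
      exact ⟨⁅a, b⁆, by simp, map_commutatorElement _ _ _⟩⟩ (le_centralizer_iff.1 cenZ hx)
  obtain ⟨x, hx, hx'⟩ := SetLike.not_le_iff_exists.1 fun e : E ⊓ ce E ≤ (Z2 K).map φ =>
    hn (le_antisymm e hZ ▸ fun g hg => nm_inf hg (nm_ce hg))
  obtain ⟨m, rfl⟩ := h.le hx.1
  rw [mem_map_iff_mem hφ, mem_Z2] at hx'
  have key : ∀ y, φ y ∈ E → y.t * m.u = m.t * y.u := fun y hy => by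
    have := hx.2 _ hy
    rw [← map_mul, ← map_mul] at this
    have := congrArg M.v (hφ this)
    simp only [M.mul_v] at this
    linear_combination this
  have fin : ∀ X : Subgroup (M K), X.map φ ≤ ce (X.map φ) → (∀ y, φ y ∈ E → y ∈ X) →
      E = X.map φ := fun X h1 h2 => by
    have h3 : E ≤ X.map φ := fun y hy => by
      obtain ⟨y, rfl⟩ := h.le hy
      exact mem_map_of_mem _ (h2 y hy)
    exact le_antisymm h3 ((le_inf (map_le_range _ _) (h1.trans (centralizer_le h3))).trans h.cen)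
  by_cases ht : m.t = 0
  · refine Or.inl (fin _ abA fun y hy => ?_)
    have := key y hy
    simp_all
  by_cases hu : m.u = 0
  · refine Or.inr (fin _ abB fun y hy => ?_)
    have := key y hy
    simp_all
  refine absurd (le_nm_of_conj fun g hg z hz => ?_) hn
  have h1 := conj_mem hg (hZ hz).1
  obtain ⟨y, hy⟩ := h.le h1
  obtain ⟨z, hz, rfl⟩ := hz
  have h2 := (sq_iff hφ (m := y)).1 (by rw [hy, conj_mul, (sq_iff hφ).2 (Or.inl hz.1)]; simp)
  have := key y (hy ▸ h1)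
  refine ⟨y, ?_, hy⟩
  rcases h2 with e | e <;> rw [e] at this
  · exact ⟨e, by simpa [ht] using this⟩
  · exact ⟨by simpa [hu] using this, e⟩

theorem even_nm (hφ : Function.Injective φ) (hF : (groupFusionSystem φ.range).IsSaturated 2) :
    nm φ.range ≤ nm ((A K).map φ) ∧ nm φ.range ≤ nm ((Q (0 : K)).map φ) := by
  refine (forall₂_and ..).1 fun g hg => ?_
  rcases cj_le_or hφ (X := (A K).map φ) (map_le_range _ _)
    (by rintro _ ⟨m, hm, rfl⟩; exact (sq_iff hφ).2 (Or.inl hm)) hg with h1 | h1 <;>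
  rcases cj_le_or hφ (X := (Q (0 : K)).map φ) (map_le_range _ _)
    (by rintro _ ⟨m, hm, rfl⟩; exact (sq_iff hφ).2 (Or.inr (by simpa using hm))) hg with h2 | h2
  · exact (not_comm hφ abA h1 h2).elim
  · exact ⟨mem_nm_of_cj_le h1, mem_nm_of_cj_le h2⟩
  · obtain ⟨m, hm, h3⟩ := (Rows.loc_top (pg_range φ) hF).cop hg
    obtain ⟨k, rfl⟩ := Nat.coprime_two_right.1 hm
    have h4 : g ^ 2 ∈ nm ((A K).map φ) :=
      mem_nm_of_cj_le (by rw [pow_two, ← cj_cj]; exact (cj_mono g h1).trans h2)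
    have h5 := sup_le nmA (ce_le_nm (map_le_range _ _)) h3
    rw [pow_succ, pow_mul] at h5
    exact (not_comm hφ abA (cj_eq ((mul_mem_cancel_left (pow_mem h4 k)).1 h5)).le h2).elim
  · exact (not_comm hφ abB h1 h2).elim

theorem ex2_or (hφ : Function.Injective φ) (hF : (groupFusionSystem φ.range).IsSaturated 2)
    (hO : (groupFusionSystem φ.range).core ≠ ⊥) :
    (groupFusionSystem φ.range).IsConstrained 2 ∨ ∃ φ' : M K →* G, φ'.range = φ.range ∧ Ex2 φ' := by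
  have hS := pg_range (p := 2) φ
  by_cases he : (groupFusionSystem φ.range).IsEssential 2 ((A K).map φ) ∧
      (groupFusionSystem φ.range).IsEssential 2 ((Q (0 : K)).map φ)
  swap
  · refine Or.inl (constr hS hF fun E E' hE hE' => ?_)
    rcases even_ess hφ (es_of hS hF hE) with rfl | rfl <;>
      rcases even_ess hφ (es_of hS hF hE') with rfl | rfl
    exacts [rfl, (he ⟨hE, hE'⟩).elim, (he ⟨hE', hE⟩).elim, rfl]
  have hW := inv_core hS hF
  have hA := hW.leE _ he.1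
  have hB := hW.leE _ he.2
  obtain ⟨x, hx, hx1⟩ := ((groupFusionSystem φ.range).core.bot_or_exists_ne_one).resolve_left hO
  obtain ⟨⟨u, v, w⟩, rfl⟩ := memA.1 (hA hx)
  obtain rfl : u = 0 := by simpa [pA, mem_map_iff_mem hφ] using hB hx
  have h1 := fx_of hφ hA hB (hW.normE _ he.1) (hW.normE _ he.2) hx
  right
  rcases lin2_or (Or.inl rfl) (linA hφ (es_of hS hF he.1)) h1.1 with (rfl : v = 0) | (rfl : w = 0)
  · exact ⟨φ, rfl, hφ, hF, es_of hS hF he.1, es_of hS hF he.2, w,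
      by rintro rfl; exact hx1 (map_one φ), h1⟩
  have eA : (A K).map (φ.comp σ) = (Q (0 : K)).map φ := map_eq σ_inj fun m => by simp [σ_apply]
  have eB : (Q (0 : K)).map (φ.comp σ) = (A K).map φ := map_eq σ_inj fun m => by simp [σ_apply]
  have eS := range_eq (φ := φ) σ_inj
  refine ⟨φ.comp σ, eS, hφ.comp σ_inj, eS ▸ hF, eS ▸ eA ▸ es_of hS hF he.2,
    eS ▸ eB ▸ es_of hS hF he.1, v, by rintro rfl; exact hx1 (map_one φ),
    fx_of (φ := φ.comp σ) (hφ.comp σ_inj) (W := (groupFusionSystem φ.range).core) (eA ▸ hB) (eB ▸ hA)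
      (eA ▸ hW.normE _ he.2) (eB ▸ hW.normE _ he.1) ?_⟩
  simpa [σ_apply, pA] using hx

theorem Rl.ex2 (h : Rl φ) : Ex2 φ := by
  have hS := pg_range (p := 2) φ
  have hF : (groupFusionSystem φ.range).IsSaturated 2 := H92.saturated_group (hS.toSylow h.syl)
  obtain ⟨g, a, b, a1, a2, b1, b2, e⟩ := h.fus
  have hn := even_nm h.inj hF
  refine ⟨h.inj, hF, es_of hS hF (by_contra fun hA => a2 ?_), es_of hS hF (by_contra fun hB => b2 ?_),
    1, one_ne_zero, fx_of h.inj (W := (Z K).map φ) (map_mono fun m hm => (mem_Z.1 hm).1)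
      (map_mono fun m hm => by simp [(mem_Z.1 hm).2.1])
      (fun g _ => h.nZ g) (fun g _ => h.nZ g) (mem_map_of_mem _ (by simp))⟩
  · have e' : g⁻¹ * φ b * g⁻¹⁻¹ = φ a := by rw [← e]; group
    have := stay hS hF hn.2 (fun E hE => (even_ess h.inj (es_of hS hF hE)).resolve_left
      fun e => hA (e ▸ hE)) (g := g⁻¹) ⟨b, rfl⟩ ⟨a, e'.symm⟩ (mem_map_of_mem _ (by simp [b1]))
    rw [e', mem_map_iff_mem h.inj] at this
    simpa using this
  · have := stay hS hF hn.1 (fun E hE => (even_ess h.inj (es_of hS hF hE)).resolve_right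
      fun e => hB (e ▸ hE)) (g := g) ⟨a, rfl⟩ ⟨b, e.symm⟩ (mem_map_of_mem _ a1)
    rwa [e, mem_map_iff_mem h.inj] at this

theorem Ex2.nf (h : Ex2 φ) :
    ∃ φ' : M K →* G, φ'.range = φ.range ∧ (Z K).map φ' = (Z K).map φ ∧ NF φ' := by
  obtain ⟨c, hc, fa, fb⟩ := h.fx
  obtain ⟨ρ, χ, hA⟩ := lin2_norm (Or.inl rfl) (linA h.inj h.esA) hc fa
  obtain ⟨ρ', χ', hB⟩ := lin2_norm (Or.inr rfl) (linB h.inj h.esB) hc fb
  have hi := κ_inj ρ χ ρ' χ'
  have hφ' := h.inj.comp hi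
  have eA : (A K).map (φ.comp (κ ρ χ ρ' χ')) = (A K).map φ := map_eq hi fun m => Iff.rfl
  have eB : (Q (0 : K)).map (φ.comp (κ ρ χ ρ' χ')) = (Q (0 : K)).map φ :=
    map_eq hi fun m => Iff.rfl
  have eS := range_eq (φ := φ) hi
  have sA := shear (ψ' := pA (φ.comp (κ ρ χ ρ' χ'))) memA (eA ▸ memA) (pA_inj h.inj)
    (fun g => gamA h.inj) (fun g hg => gamA hφ' (eA ▸ hg))
    (fun u v w => by simp [pA, κ_apply]) fa hA
  have sB := shear (ψ' := pB (φ.comp (κ ρ χ ρ' χ'))) memB (eB ▸ memB) (pB_inj h.inj)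
    (fun g => gamB h.inj) (fun g hg => gamB hφ' (eB ▸ hg))
    (fun u v w => by simp [pB, κ_apply]) fb hB
  refine ⟨φ.comp (κ ρ χ ρ' χ'), eS, map_eq hi fun m => ?_,
    ⟨hφ', eS ▸ h.sat, eS ▸ eA ▸ h.esA, eS ▸ eB ▸ h.esB, c, hc, sA.1, sB.1⟩, sA.2, sB.2⟩
  simp +contextual [κ_apply]

end Cfsg.Agent.SPQ
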