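import Cfsg.Agent.SPQ.Defs

/-! Project SPQ: common facts on groups of additive automorphisms with unipotent Sylow subgroup. -/

set_option autoImplicit false

namespace Cfsg.Agent.SPQ.LU

open Subgroup

variable {p : ℕ} {K : Type*} [Field K] {f : K → K → K} {N Γ : Subgroup (Au (V K))}
  {γ : Au (V K)}

/-- `Lin` without the non-normality. -/
structure Lin0 (p : ℕ) (f : K → K → K) (N Γ : Subgroup (Au (V K))) : Prop where
  syl : H91.SylIn p N Γ
  mem : ∀ γ ∈ N, ∃ t, IsN f t γ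
  ex : ∀ t, ∃ γ ∈ N, IsN f t γ

theorem lin0 (h : Lin p f N Γ) : Lin0 p f N Γ := ⟨h.syl, h.mem, h.ex⟩

theorem isN_f0 {t : K} (h : IsN f t γ) : f t 0 = 0 := by
  have := congrArg (fun y : V K => y.2.2) ((h 0 0 0).symm.trans (map_zero γ))
  simpa using this

theorem isM_f0 {t : K} (h : IsM f t γ) : f t 0 = 0 := by
  have := congrArg (fun y : V K => y.2.2) ((h 0 0 0).symm.trans (map_zero γ))
  simpa using this

theorem isN_V0 {t : K} (h : IsN f t γ) (w : K) : γ (0, 0, w) = (0, 0, w) := by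
  rw [h, isN_f0 h]; simp

theorem isM_V0 {t : K} (h : IsM f t γ) (w : K) : γ (0, 0, w) = (0, 0, w) := by
  rw [h, isM_f0 h]; simp

theorem isN_eq {t : K} {γ' : Au (V K)} (h : IsN f t γ) (h' : IsN f t γ') : γ = γ' :=
  LinearEquiv.ext fun ⟨u, v, w⟩ => (h u v w).trans (h' u v w).symm

theorem Lin0.zero (h : Lin0 p f N Γ) : IsN f 0 (1 : Au (V K)) := by
  obtain ⟨t, ht⟩ := h.mem 1 (one_mem _)
  have : t = 0 := by simpa using congrArg (fun y : V K => y.2.1) (ht 1 0 0).symm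
  exact this ▸ ht

/-- a property of vectors preserved by `γ` is preserved by `γ⁻¹` -/
theorem inv_pres {W : Type*} [AddCommGroup W] [Finite W] {g : Au W} {P : W → Prop}
    (h : ∀ y, P y → P (g y)) (y : W) (hy : P y) : P (g⁻¹ y) := by
  obtain ⟨k, hk⟩ := mem_powers_iff_mem_zpowers.2 (inv_mem (mem_zpowers g))
  simp only at hk
  rw [← hk]
  clear hk
  induction k with
  | zero => exact hy
  | succ k ih => rw [pow_succ']; exact h _ ih

theorem inv_fix {W : Type*} [AddCommGroup W] {g : Au W} {y : W} (h : g y = y) : g⁻¹ y = y := by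
  conv_lhs => rw [← h]
  exact Au.inv_apply g y

/-- the stabiliser of the flag -/
def U (Γ : Subgroup (Au (V K))) : Subgroup (Au (V K)) where
  carrier := {γ | γ ∈ Γ ∧ (∀ y, (γ y).1 = y.1) ∧ (∀ y, y.1 = 0 → (γ y).2.1 = y.2.1) ∧
    ∀ w, γ (0, 0, w) = (0, 0, w)}
  one_mem' := ⟨one_mem _, fun _ => rfl, fun _ _ => rfl, fun _ => rfl⟩
  mul_mem' := fun {a b} ⟨a0, a1, a2, a3⟩ ⟨b0, b1, b2, b3⟩ => ⟨mul_mem a0 b0,
    fun y => by rw [LinearEquiv.mul_apply, a1, b1],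
    fun y hy => by rw [LinearEquiv.mul_apply, a2 _ ((b1 y).trans hy), b2 y hy],
    fun w => by rw [LinearEquiv.mul_apply, b3, a3]⟩
  inv_mem' := fun {a} ⟨a0, a1, a2, a3⟩ => by
    have b1 : ∀ y, (a⁻¹ y).1 = y.1 := fun y => by rw [← a1, Au.apply_inv]
    exact ⟨inv_mem a0, b1, fun y hy => by rw [← a2 _ ((b1 y).trans hy), Au.apply_inv],
      fun w => inv_fix (a3 w)⟩

theorem pow_eq_one [Fact p.Prime] [CharP K p]
    (h : ∀ y, γ (γ (γ y - y) - (γ y - y)) = γ (γ y - y) - (γ y - y)) : γ ^ p ^ 2 = 1 := by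
  have hp : p.Prime := Fact.out
  have : CharP (Module.End ℤ (V K)) p := (CharP.charP_iff_prime_eq_zero hp).2 (LinearMap.ext
    fun y => by
      rw [Module.End.natCast_apply, ← Nat.cast_smul_eq_nsmul K, CharP.cast_eq_zero, zero_smul]
      rfl)
  obtain ⟨δ, hδ⟩ : ∃ δ : Module.End ℤ (V K), δ = (γ : V K →ₗ[ℤ] V K) - 1 := ⟨_, rfl⟩
  have h3 : δ ^ 3 = 0 := LinearMap.ext fun y => by
    rw [pow_three, hδ]
    exact sub_eq_zero.2 (h y)
  have h4 : δ ^ p ^ 2 = 0 := pow_eq_zero_of_le (by have := hp.two_le; nlinarith) h3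
  have h5 : (δ + 1) ^ p ^ 2 = 1 := by
    rw [add_pow_char_pow_of_commute p 2 (Commute.one_right δ), h4, one_pow, zero_add]
  rw [hδ, sub_add_cancel] at h5
  refine LinearEquiv.ext fun y => ?_
  have := LinearMap.congr_fun h5 y
  rw [Module.End.pow_apply] at this
  rw [LinearEquiv.pow_apply]
  exact this

theorem isPGroup_U [Fact p.Prime] [CharP K p] : IsPGroup p (U Γ) := fun ⟨g, _, a1, a2, a3⟩ =>
  ⟨2, Subtype.ext (pow_eq_one fun y => by
    have h1 : (g y - y).1 = 0 := by rw [Prod.fst_sub, a1, sub_self]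
    generalize g y - y = z at h1
    have e : g z - z = (0, 0, (g z - z).2.2) :=
      Prod.ext (by rw [Prod.fst_sub, a1, sub_self])
        (Prod.ext (by rw [Prod.snd_sub, Prod.fst_sub, a2 z h1, sub_self]) rfl)
    rw [e, a3])⟩

theorem Lin0.mem_N [Fact p.Prime] [CharP K p] (h : Lin0 p f N Γ) (hγ : γ ∈ Γ)
    (h1 : ∀ y, (γ y).1 = y.1) (h2 : ∀ y, y.1 = 0 → (γ y).2.1 = y.2.1)
    (h3 : ∀ w, γ (0, 0, w) = (0, 0, w)) : γ ∈ N := by
  have : U Γ = N := h.syl.eq_of_le isPGroup_U (fun n hn => by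
    obtain ⟨t, ht⟩ := h.mem n hn
    refine ⟨h.syl.le hn, fun ⟨u, v, w⟩ => by rw [ht], fun ⟨u, v, w⟩ hu => ?_, isN_V0 ht⟩
    obtain rfl : u = 0 := hu
    rw [ht]; simp) fun _ hn => hn.1
  exact this ▸ ⟨hγ, h1, h2, h3⟩

/-- the Sylow argument -/
theorem F1 [Fact p.Prime] {W : Type*} [AddCommGroup W] [Finite W] {N Γ : Subgroup (Au W)}
    (h : H91.SylIn p N Γ) {g n : Au W} (hg : g ∈ Γ) (hn : n ∈ N) {x : W} (D : AddSubgroup W)
    (hD : ∀ d ∈ D, n d = d) (hD' : ∀ m ∈ N, ∀ d ∈ D, m (g⁻¹ d) = g⁻¹ d)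
    (hx : ∀ m ∈ N, m (g⁻¹ x) = g⁻¹ x) (hnx : n x - x ∈ D) : n x = x := by
  let L : Subgroup (Au W) :=
    { carrier := {l | l ∈ Γ ∧ (∀ d ∈ D, l d = d) ∧ l x - x ∈ D}
      one_mem' := ⟨one_mem _, fun _ _ => rfl, by simp⟩
      mul_mem' := fun {a b} ⟨a0, a1, a2⟩ ⟨b0, b1, b2⟩ => ⟨mul_mem a0 b0,
        fun d hd => by rw [LinearEquiv.mul_apply, b1 d hd, a1 d hd], by
          have := add_mem b2 a2
          rw [← a1 _ b2, map_sub, sub_add_sub_cancel] at this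
          exact this⟩
      inv_mem' := fun {a} ⟨a0, a1, a2⟩ => ⟨inv_mem a0, fun d hd => inv_fix (a1 d hd), by
        have := neg_mem a2
        rw [← inv_fix (a1 _ this), neg_sub, map_sub, Au.inv_apply] at this
        exact this⟩ }
  have key : ∀ m ∈ N.map (MulAut.conj g).toMonoidHom, ∀ y, (∀ m ∈ N, m (g⁻¹ y) = g⁻¹ y) →
      m y = y := by
    rintro _ ⟨m, hm, rfl⟩ y hy
    change g (m (g⁻¹ y)) = y
    rw [hy m hm, Au.apply_inv]
  have hS : H91.SylIn p (N.map (MulAut.conj g).toMonoidHom) L := (h.conj hg).of_le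
    (fun m hm => ⟨(h.conj hg).le hm, fun d hd => key m hm d fun m hm => hD' m hm d hd, by
      rw [key m hm x hx, sub_self]; exact zero_mem _⟩) fun _ hl => hl.1
  obtain ⟨l, hl, hc⟩ := hS.exists_conj_mem (H := zpowers n)
    (h.isPGroup.to_le (zpowers_le.2 hn)) (zpowers_le.2 ⟨h.le hn, hD, hnx⟩)
  have h1 : l (n (l⁻¹ x)) = x := key _ (hc n (mem_zpowers n)) x hx
  have h2 : n (l⁻¹ x) = l⁻¹ x := by
    conv_rhs => rw [← h1]
    rw [Au.inv_apply]
  have h3 := hD _ (inv_mem hl).2.2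
  rw [map_sub, h2] at h3
  exact sub_right_injective h3

end Cfsg.Agent.SPQ.LU
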